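import Groth.Agent.RedSub.H638.MinRep
import Mathlib.LinearAlgebra.RootSystem.Finite.Lemmas
import Mathlib.LinearAlgebra.RootSystem.Reduced

/-!
# Small elements of the character lattice

`m : M` is small if `|⟨m, coroot a⟩| ≤ 1` for all roots `a` with `root a ≠ ± m`.  For a reduced root
datum there is a finite reflection-stable set of small elements generating the character lattice
(`exists_small_finset`).
-/

set_option autoImplicit false

namespace Groth.Agent.RedSub.H638.Small

open Groth.Agent.RedSub.H638.MinRep

variable {ι M N : Type} [AddCommGroup M] [AddCommGroup N] {P : RootPairing ι ℤ M N}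

section form

variable [Fintype ι]

lemma two_mul_rootForm (x : M) (a : ι) : 2 * P.RootForm x (P.root a) =
    P.coroot' a x * P.RootForm (P.root a) (P.root a) := by
  have h1 := P.rootForm_reflection_reflection_apply a x (P.root a)
  rw [P.reflection_apply, P.reflection_apply_self, map_sub, map_smul, LinearMap.sub_apply,
    LinearMap.smul_apply, map_neg, map_neg, smul_eq_mul] at h1
  linarith

lemma rootForm_comm (x y : M) : P.RootForm x y = P.RootForm y x := by
  rw [P.rootForm_apply_apply, P.rootForm_apply_apply]
  exact Finset.sum_congr rfl fun i _ => mul_comm _ _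

lemma rootForm_root_pos (a : ι) : 0 < P.RootForm (P.root a) (P.root a) :=
  P.rootForm_pos_of_ne_zero (Submodule.subset_span ⟨a, rfl⟩) (P.ne_zero a)

end form

/-- smallness of a lattice element -/
def IsSmall (P : RootPairing ι ℤ M N) (m : M) : Prop :=
  ∀ a, P.root a ≠ m → P.root a ≠ -m → |P.coroot' a m| ≤ 1

lemma isSmall_reflection {m : M} (h : IsSmall P m) (c : ι) : IsSmall P (P.reflection c m) := by
  intro a h1 h2
  rw [P.coroot'_reflection]
  apply h
  · intro h3
    apply h1
    rw [← h3, P.root_reflectionPerm, P.reflection_same]
  · intro h3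
    apply h2
    have h4 : m = - P.root (P.reflectionPerm c a) := by rw [h3, neg_neg]
    rw [h4, map_neg, neg_neg, P.root_reflectionPerm, P.reflection_same]

variable [Finite ι] [P.IsReduced]

/-- **Small roots generate the root lattice.** -/
theorem root_mem_closure (a : ι) :
    P.root a ∈ Submodule.span ℤ {m | (∃ c, P.root c = m) ∧ IsSmall P m} := by
  classical
  have := Fintype.ofFinite ι
  have hrefl : Module.IsReflexive ℤ M := .of_isPerfPair P.toLinearMap
  suffices H : ∀ (n : ℕ) (a : ι), (P.RootForm (P.root a) (P.root a)).toNat = n →
      P.root a ∈ Submodule.span ℤ {m | (∃ c, P.root c = m) ∧ IsSmall P m} from H _ a rfl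
  intro n
  induction n using Nat.strong_induction_on with
  | _ n ih =>
    intro a ha
    by_cases hs : IsSmall P (P.root a)
    · exact Submodule.subset_span ⟨⟨a, rfl⟩, hs⟩
    · obtain ⟨b, h1, h2, h3⟩ : ∃ b, P.root b ≠ P.root a ∧ P.root b ≠ -P.root a ∧
          1 < P.coroot' b (P.root a) := by
        unfold IsSmall at hs
        push Not at hs
        obtain ⟨b, h1, h2, h3⟩ := hs
        rcases lt_abs.mp h3 with h4 | h4
        · exact ⟨b, h1, h2, h4⟩
        · have h5 : P.root (P.reflectionPerm b b) = - P.root b := by simp
          have h6 : P.coroot (P.reflectionPerm b b) = - P.coroot b := by simp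
          refine ⟨P.reflectionPerm b b, ?_, ?_, ?_⟩
          · rw [h5]
            intro h
            exact h2 (by rw [← h, neg_neg])
          · rw [h5, Ne, neg_inj]
            exact h1
          · rw [RootPairing.coroot', h6, map_neg, LinearMap.neg_apply]
            exact h4
      -- the other pairing is one
      have h4 : P.pairing b a = 1 := by
        have h5 := P.pairingIn_pairingIn_mem_set_of_isCrystal_of_isRed' a b (Ne.symm h1)
          (fun h => h2 (by rw [h, neg_neg]))
        have h6 : P.pairingIn ℤ a b = P.pairing a b := P.algebraMap_pairingIn ℤ a b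
        have h7 : P.pairingIn ℤ b a = P.pairing b a := P.algebraMap_pairingIn ℤ b a
        rw [h6, h7] at h5
        have h8 : 1 < P.pairing a b := h3
        simp only [Set.mem_insert_iff, Set.mem_singleton_iff, Prod.mk.injEq] at h5
        omega
      have h5 : P.RootForm (P.root b) (P.root b) < P.RootForm (P.root a) (P.root a) := by
        have e1 := two_mul_rootForm (P := P) (P.root a) b
        have e2 := two_mul_rootForm (P := P) (P.root b) a
        have e3 : P.coroot' a (P.root b) = 1 := h4
        rw [rootForm_comm] at e2
        rw [e1, e3, one_mul] at e2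
        have hpos := rootForm_root_pos (P := P) b
        nlinarith
      have h6 : P.root (P.reflectionPerm a b) = P.root b - P.root a := by
        rw [P.root_reflectionPerm, P.reflection_apply_root, h4, one_smul]
      have h7 : P.RootForm (P.root (P.reflectionPerm a b)) (P.root (P.reflectionPerm a b)) =
          P.RootForm (P.root b) (P.root b) := by
        rw [P.root_reflectionPerm, P.rootForm_reflection_reflection_apply]
      have hlt : (P.RootForm (P.root b) (P.root b)).toNat < n := by
        have := rootForm_root_pos (P := P) b
        omega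
      have h8 := ih _ hlt b rfl
      have h9 := ih _ hlt (P.reflectionPerm a b) (by rw [h7])
      rw [h6] at h9
      have h10 := Submodule.sub_mem _ h8 h9
      rwa [sub_sub_cancel] at h10

/-- **A finite reflection-stable generating set of small elements.** -/
theorem exists_small_finset [Module.Finite ℤ M] : ∃ Lam : Finset M,
    (∀ m ∈ Lam, ∀ a, P.root a ≠ m → P.root a ≠ -m → |P.toLinearMap m (P.coroot a)| ≤ 1) ∧
    (∀ m ∈ Lam, ∀ a, P.reflection a m ∈ Lam) ∧ AddSubgroup.closure (Lam : Set M) = ⊤ := by
  classical
  obtain ⟨s, hs⟩ := Module.Finite.fg_top (R := ℤ) (M := M)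
  choose g hg1 hg2 using fun m : M => exists_small (P := P) m
  let A : Set M := {m | (∃ c, P.root c = m) ∧ IsSmall P m}
  have hA : A.Finite := (Set.finite_range P.root).subset fun m hm => hm.1
  let T : Set M := ⋃ m ∈ s, Set.range (MinRep.Small.val : MinRep.Small P (g m) → M)
  have hT : T.Finite := by
    refine Set.Finite.biUnion s.finite_toSet fun m _ => ?_
    exact Set.finite_range _
  have hmem : ∀ m, m ∈ (hA.union hT).toFinset ↔ m ∈ A ∨ m ∈ T := fun m => by
    rw [Set.Finite.mem_toFinset]; rfl
  refine ⟨(hA.union hT).toFinset, ?_, ?_, ?_⟩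
  · intro m hm a h1 h2
    rcases (hmem m).mp hm with h | h
    · exact h.2 a h1 h2
    · simp only [T, Set.mem_iUnion, Set.mem_range] at h
      obtain ⟨m', _, y, rfl⟩ := h
      exact y.small a
  · intro m hm a
    rw [hmem] at hm ⊢
    rcases hm with h | h
    · left
      obtain ⟨⟨c, rfl⟩, h⟩ := h
      exact ⟨⟨P.reflectionPerm a c, P.root_reflectionPerm a c⟩, isSmall_reflection h a⟩
    · right
      simp only [T, Set.mem_iUnion, Set.mem_range] at h ⊢
      obtain ⟨m', hm', y, rfl⟩ := h
      exact ⟨m', hm', y.refl a, rfl⟩
  · have h1 : Submodule.span ℤ (((hA.union hT).toFinset : Finset M) : Set M) = ⊤ := by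
      have hle : P.rootSpan ℤ ≤ Submodule.span ℤ (((hA.union hT).toFinset : Finset M) : Set M) := by
        rw [RootPairing.rootSpan, Submodule.span_le]
        rintro _ ⟨a, rfl⟩
        refine Submodule.span_mono ?_ (root_mem_closure a)
        intro m hm
        exact (hmem m).mpr (Or.inl hm)
      rw [eq_top_iff, ← hs, Submodule.span_le]
      intro m hm
      have h2 : g m ∈ Submodule.span ℤ (((hA.union hT).toFinset : Finset M) : Set M) := by
        apply Submodule.subset_span
        refine (hmem _).mpr (Or.inr ?_)
        simp only [T, Set.mem_iUnion, Set.mem_range]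
        refine ⟨m, hm, ⟨g m, ?_, hg2 m⟩, rfl⟩
        rw [sub_self]
        exact Submodule.zero_mem _
      have h3 := Submodule.add_mem _ (hle (hg1 m)) h2
      rw [sub_add_cancel] at h3
      exact h3
    rw [← Submodule.span_int_eq_addSubgroupClosure, h1]
    rfl

end Groth.Agent.RedSub.H638.Small
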