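import Groth.Agent.Sga3B.WordNorm
import Groth.Agent.Sga3B.PinComb829

/-!
# Pinned groups on points: the Borel subgroup, the elements `n_a`, words in them

For `E : PinCell P b R A` (functor-of-points form of a pinned split reductive group):
`Up`, `Um` (points of the positive / negative unipotent parts), `Bor` (the Borel subgroup), the
relations of `n_a = u_a(1) u_{-a}(-1) u_a(1)` with the torus and the root groups, the products `nw l`
of the `n_a` along words, the subgroup `gen` generated by the torus and the simple root groups and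
their opposites.
-/

set_option autoImplicit false
set_option linter.unusedSectionVars false
universe u

namespace Groth.Agent.RedSub.H638.WeylBase

open Groth.Agent.Sga3B Groth.Agent.Sga3B.Cell Groth.Agent.Sga3B.Word

variable {idx M : Type} [Fintype idx] [AddCommGroup M] [Module.Free ℤ M]
    [Module.Finite ℤ M] {P : RootPairing idx ℤ M (Module.Dual ℤ M)} {b : P.Base}
    {R A : Type u} [CommRing R] [CommRing A] [Algebra R A] [PtGrp R A] (E : PinCell P b R A)
    (B : Type u) [CommRing B] [Algebra R B]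

/-! ### the unipotent parts and the Borel subgroup -/

/-- products of positive root elements, as a submonoid -/
noncomputable def UpM : Submonoid (Pt R A B) where
  carrier := {g | ∃ x : idx → B, g = posP E x}
  one_mem' := ⟨0, by simp⟩
  mul_mem' := by
    rintro _ _ ⟨x, rfl⟩ ⟨y, rfl⟩
    obtain ⟨z, hz, -⟩ := exists_posP_mul E x y
    exact ⟨z, hz⟩

/-- products of negative root elements, as a submonoid -/
noncomputable def UmM : Submonoid (Pt R A B) where
  carrier := {g | ∃ x : idx → B, g = negP E x}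
  one_mem' := ⟨0, by simp⟩
  mul_mem' := by
    rintro _ _ ⟨x, rfl⟩ ⟨y, rfl⟩
    obtain ⟨z, hz, -⟩ := exists_negP_mul E x y
    exact ⟨z, hz⟩

variable {B}

lemma uu_mem_UpM {c : idx} (hc : b.IsPos c) (x : B) : E.uu c B x ∈ UpM E B := by
  classical
  exact ⟨Pi.single c x, (posP_single E hc x).symm⟩

lemma uu_mem_UmM {c : idx} (hc : ¬ b.IsPos c) (x : B) : E.uu c B x ∈ UmM E B := by
  classical
  exact ⟨Pi.single c x, (negP_single E hc x).symm⟩

variable (B)

/-- the points of the positive unipotent part `U⁺` -/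
noncomputable def Up : Subgroup (Pt R A B) where
  __ := UpM E B
  inv_mem' := by
    rintro _ ⟨x, rfl⟩
    change (posP E x)⁻¹ ∈ UpM E B
    rw [posP, List.prod_inv_reverse]
    apply Submonoid.list_prod_mem
    intro y hy
    rw [List.mem_reverse, List.mem_map] at hy
    obtain ⟨z, hz, rfl⟩ := hy
    obtain ⟨c, hc, rfl⟩ := List.mem_map.mp hz
    rw [← E.uu_neg]
    exact uu_mem_UpM E ((mem_posList b).mp hc) _

/-- the points of the negative unipotent part `U⁻` -/
noncomputable def Um : Subgroup (Pt R A B) where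
  __ := UmM E B
  inv_mem' := by
    rintro _ ⟨x, rfl⟩
    change (negP E x)⁻¹ ∈ UmM E B
    rw [negP, List.prod_inv_reverse]
    apply Submonoid.list_prod_mem
    intro y hy
    rw [List.mem_reverse, List.mem_map] at hy
    obtain ⟨z, hz, rfl⟩ := hy
    obtain ⟨c, hc, rfl⟩ := List.mem_map.mp hz
    rw [← E.uu_neg]
    exact uu_mem_UmM E ((mem_negList b).mp hc) _

variable {B}

lemma mem_Up {g : Pt R A B} : g ∈ Up E B ↔ ∃ x : idx → B, g = posP E x := Iff.rfl
lemma mem_Um {g : Pt R A B} : g ∈ Um E B ↔ ∃ x : idx → B, g = negP E x := Iff.rfl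

lemma posP_mem_Up (x : idx → B) : posP E x ∈ Up E B := ⟨x, rfl⟩
lemma negP_mem_Um (x : idx → B) : negP E x ∈ Um E B := ⟨x, rfl⟩

lemma uu_mem_Up {c : idx} (hc : b.IsPos c) (x : B) : E.uu c B x ∈ Up E B := uu_mem_UpM E hc x
lemma uu_mem_Um {c : idx} (hc : ¬ b.IsPos c) (x : B) : E.uu c B x ∈ Um E B := uu_mem_UmM E hc x

/-- induction on `U⁺` -/
lemma Up_le {H : Subgroup (Pt R A B)} (h : ∀ c, b.IsPos c → ∀ x : B, E.uu c B x ∈ H) :
    Up E B ≤ H := by
  rintro _ ⟨x, rfl⟩
  apply Subgroup.list_prod_mem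
  intro y hy
  obtain ⟨c, hc, rfl⟩ := List.mem_map.mp hy
  exact h c ((mem_posList b).mp hc) _

/-- induction on `U⁻` -/
lemma Um_le {H : Subgroup (Pt R A B)} (h : ∀ c, ¬ b.IsPos c → ∀ x : B, E.uu c B x ∈ H) :
    Um E B ≤ H := by
  rintro _ ⟨x, rfl⟩
  apply Subgroup.list_prod_mem
  intro y hy
  obtain ⟨c, hc, rfl⟩ := List.mem_map.mp hy
  exact h c ((mem_negList b).mp hc) _

lemma conj_i_mem_Up (t : TPt M B) {u : Pt R A B} (hu : u ∈ Up E B) :
    E.i B t * u * (E.i B t)⁻¹ ∈ Up E B := by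
  obtain ⟨x, rfl⟩ := hu
  have h := E.toDatum.i_mul_prod (posList b) x t
  refine ⟨fun a => TPt.ch (P.root a) t * x a, ?_⟩
  rw [mul_inv_eq_iff_eq_mul]
  exact h

lemma conj_i_mem_Um (t : TPt M B) {u : Pt R A B} (hu : u ∈ Um E B) :
    E.i B t * u * (E.i B t)⁻¹ ∈ Um E B := by
  obtain ⟨x, rfl⟩ := hu
  have h := E.toDatum.i_mul_prod (negList b) x t
  refine ⟨fun a => TPt.ch (P.root a) t * x a, ?_⟩
  rw [mul_inv_eq_iff_eq_mul]
  exact h

variable (B)

/-- the points of the Borel subgroup `B⁺ = U⁺ T` -/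
noncomputable def Bor : Subgroup (Pt R A B) where
  carrier := {g | ∃ u ∈ Up E B, ∃ t : TPt M B, g = u * E.i B t}
  one_mem' := ⟨1, one_mem _, 1, by simp⟩
  mul_mem' := by
    rintro _ _ ⟨u, hu, t, rfl⟩ ⟨u', hu', t', rfl⟩
    refine ⟨u * (E.i B t * u' * (E.i B t)⁻¹), mul_mem hu (conj_i_mem_Up E t hu'), t * t', ?_⟩
    rw [map_mul]; group
  inv_mem' := by
    rintro _ ⟨u, hu, t, rfl⟩
    refine ⟨E.i B t⁻¹ * u⁻¹ * (E.i B t⁻¹)⁻¹, conj_i_mem_Up E t⁻¹ (inv_mem hu), t⁻¹, ?_⟩
    rw [i_inv]; group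

variable {B}

lemma mem_Bor {g : Pt R A B} : g ∈ Bor E B ↔ ∃ u ∈ Up E B, ∃ t : TPt M B, g = u * E.i B t := Iff.rfl

lemma Up_le_Bor : Up E B ≤ Bor E B := fun u hu => ⟨u, hu, 1, by simp⟩

lemma i_mem_Bor (t : TPt M B) : E.i B t ∈ Bor E B := ⟨1, one_mem _, t, by simp⟩

lemma uu_mem_Bor {c : idx} (hc : b.IsPos c) (x : B) : E.uu c B x ∈ Bor E B :=
  Up_le_Bor E (uu_mem_Up E hc x)

/-- the big cell as `U⁻ · B⁺` -/
lemma inCell_iff_mul {g : Pt R A B} : (∃ (x : idx → B) (t : TPt M B), g = E.cell x t) ↔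
    ∃ u ∈ Um E B, ∃ v ∈ Bor E B, g = u * v := by
  classical
  constructor
  · rintro ⟨x, t, rfl⟩
    refine ⟨negP E x, negP_mem_Um E x, posP E x * E.i B t, ⟨posP E x, posP_mem_Up E x, t, rfl⟩, ?_⟩
    rw [cell_eq_mul, mul_assoc]
  · rintro ⟨_, ⟨x, rfl⟩, _, ⟨_, ⟨y, rfl⟩, t, rfl⟩, rfl⟩
    refine ⟨fun a => if b.IsPos a then y a else x a, t, ?_⟩
    rw [cell_eq_mul, ← mul_assoc]
    congr 2
    · unfold negP
      congr 1
      apply List.map_congr_left
      intro a ha
      change _ = E.uu a B (if b.IsPos a then y a else x a)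
      rw [if_neg ((mem_negList b).mp ha)]
    · unfold posP
      congr 1
      apply List.map_congr_left
      intro a ha
      change _ = E.uu a B (if b.IsPos a then y a else x a)
      rw [if_pos ((mem_posList b).mp ha)]

/-! ### the elements `n_a` -/

lemma coroot_root_self (E : PinCell P b R A) (a : idx) : P.coroot a (P.root a) = 2 := by
  have := P.root_coroot_two a
  rw [E.pairing_eq] at this
  exact this

/-- `u_a(v) u_{-a}(-v⁻¹) u_a(v) = a^∨(v) n_a` -/
lemma nv_eq {a : idx} (ha : a ∈ b.support) (v : Bˣ) :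
    E.uu a B v * E.uu (P.reflectionPerm a a) B (-((v⁻¹ : Bˣ) : B)) * E.uu a B v =
      E.i B (TPt.cow (P.coroot a) v) * E.nn a B := by
  have h1 := E.rank1 a ha ((v : B) - 1) 1 v (by ring)
  have h2 := E.rel a (TPt.cow (P.coroot a) v) (-((v⁻¹ : Bˣ) : B))
  rw [TPt.ch_cow, coroot_root_self E] at h2
  have h3 : (((v ^ (2 : ℤ) : Bˣ) : B)) * (-((v⁻¹ : Bˣ) : B)) = -(v : B) := by
    rw [mul_neg, ← Units.val_mul, zpow_two, mul_inv_cancel_right]
  rw [h3] at h2
  have h4 : ((v⁻¹ : Bˣ) : B) * ((v : B) - 1) + (-1) = -((v⁻¹ : Bˣ) : B) := by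
    rw [mul_sub, Units.inv_mul]; ring
  have hnn : (E.nn a B)⁻¹ = E.uu a B (-1) * E.uu (P.reflectionPerm a a) B 1 * E.uu a B (-1) := by
    rw [PinCell.nn, mul_inv_rev, mul_inv_rev, ← E.uu_neg, ← E.uu_neg, neg_neg, mul_assoc]
  rw [← mul_inv_eq_iff_eq_mul, hnn]
  calc E.uu a B v * E.uu (P.reflectionPerm a a) B (-((v⁻¹ : Bˣ) : B)) * E.uu a B v *
        (E.uu a B (-1) * E.uu (P.reflectionPerm a a) B 1 * E.uu a B (-1))
      = E.uu a B v * E.uu (P.reflectionPerm a a) B (-((v⁻¹ : Bˣ) : B)) *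
        ((E.uu a B v * E.uu a B (-1)) * E.uu (P.reflectionPerm a a) B 1) * E.uu a B (-1) := by
        simp only [mul_assoc]
    _ = E.uu a B v * E.uu (P.reflectionPerm a a) B (-((v⁻¹ : Bˣ) : B)) *
        (E.uu a B ((v : B) - 1) * E.uu (P.reflectionPerm a a) B 1) * E.uu a B (-1) := by
        rw [← E.uu_add, ← sub_eq_add_neg]
    _ = E.uu a B v * (E.uu (P.reflectionPerm a a) B (-((v⁻¹ : Bˣ) : B)) *
        E.uu (P.reflectionPerm a a) B ((v⁻¹ : Bˣ) : B)) * E.i B (TPt.cow (P.coroot a) v) *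
        (E.uu a B (((v⁻¹ : Bˣ) : B) * ((v : B) - 1)) * E.uu a B (-1)) := by
        rw [h1, mul_one]; simp only [mul_assoc]
    _ = E.uu a B v * (E.i B (TPt.cow (P.coroot a) v) * E.uu a B (-((v⁻¹ : Bˣ) : B)) *
        (E.i B (TPt.cow (P.coroot a) v))⁻¹) * E.i B (TPt.cow (P.coroot a) v) := by
        rw [← E.uu_add, ← E.uu_add, neg_add_cancel, E.uu_zero, h4]; group
    _ = E.i B (TPt.cow (P.coroot a) v) := by
        rw [h2, ← E.uu_add, add_neg_cancel, E.uu_zero, one_mul]

/-- `n_a⁻¹ = a^∨(-1) n_a` -/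
lemma nn_inv {a : idx} (ha : a ∈ b.support) :
    (E.nn a B)⁻¹ = E.i B (TPt.cow (P.coroot a) (-1)) * E.nn a B := by
  rw [← nv_eq E ha (-1 : Bˣ), PinCell.nn, mul_inv_rev, mul_inv_rev, ← E.uu_neg, ← E.uu_neg, neg_neg,
    mul_assoc]
  simp

/-- `n_a` normalises the torus and acts on it by the reflection -/
lemma nn_conj_i {a : idx} (ha : a ∈ b.support) (t : TPt M B) :
    E.nn a B * E.i B t * (E.nn a B)⁻¹ =
      E.i B (t * (TPt.cow (P.coroot a) (t (Multiplicative.ofAdd (P.root a))))⁻¹) := by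
  have hneg : P.root (P.reflectionPerm a a) = - P.root a := by simp
  set v : Bˣ := t (Multiplicative.ofAdd (P.root a)) with hv
  have h1 : E.i B t * E.nn a B * (E.i B t)⁻¹ = E.i B (TPt.cow (P.coroot a) v) * E.nn a B := by
    rw [← nv_eq E ha v, PinCell.nn]
    have e1 := E.rel a t 1
    have e2 := E.rel (P.reflectionPerm a a) t (-1)
    have c1 : TPt.ch (P.root a) t = v := rfl
    have c2 : TPt.ch (P.root (P.reflectionPerm a a)) t = ((v⁻¹ : Bˣ) : B) := by
      rw [hneg, TPt.ch, ofAdd_neg, map_inv]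
    rw [c1, mul_one] at e1
    rw [c2, mul_neg, mul_one] at e2
    rw [← e1, ← e2]; group
  rw [mul_inv_eq_iff_eq_mul, map_mul, i_inv, eq_comm]
  have h2 : (E.i B (TPt.cow (P.coroot a) v))⁻¹ * (E.i B t * E.nn a B * (E.i B t)⁻¹) * E.i B t =
      (E.i B (TPt.cow (P.coroot a) v))⁻¹ * (E.i B (TPt.cow (P.coroot a) v) * E.nn a B) *
        E.i B t := by rw [h1]
  have h3 : (E.i B (TPt.cow (P.coroot a) v))⁻¹ * (E.i B t * E.nn a B * (E.i B t)⁻¹) * E.i B t =
      E.i B t * (E.i B (TPt.cow (P.coroot a) v))⁻¹ * E.nn a B := by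
    have hc : (E.i B (TPt.cow (P.coroot a) v))⁻¹ * E.i B t =
        E.i B t * (E.i B (TPt.cow (P.coroot a) v))⁻¹ := by
      rw [← i_inv, ← map_mul, ← map_mul]
      exact congrArg (E.i B) (mul_comm _ t)
    rw [← mul_assoc, ← mul_assoc, hc]; group
  rw [← h3, h2]; group

/-! ### words -/

/-- the permutation of the roots of a word -/
def wp (P : RootPairing idx ℤ M (Module.Dual ℤ M)) (l : List idx) : Equiv.Perm idx :=
  (l.map P.reflectionPerm).prod

omit [Fintype idx] [Module.Free ℤ M] [Module.Finite ℤ M] in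
@[simp] lemma wp_nil : wp P [] = 1 := rfl
omit [Fintype idx] [Module.Free ℤ M] [Module.Finite ℤ M] in
@[simp] lemma wp_cons (a : idx) (l : List idx) : wp P (a :: l) = P.reflectionPerm a * wp P l := by
  simp [wp]

variable (B)

/-- the product of the `n_a` along a word -/
noncomputable def nw (l : List idx) : Pt R A B := (l.map (fun a => E.nn a B)).prod

@[simp] lemma nw_nil : nw E B [] = 1 := rfl
@[simp] lemma nw_cons (a : idx) (l : List idx) : nw E B (a :: l) = E.nn a B * nw E B l := by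
  simp [nw]
lemma nw_append (l l' : List idx) : nw E B (l ++ l') = nw E B l * nw E B l' := by
  simp [nw]

variable {B} {C : Type u} [CommRing C] [Algebra R C]

lemma nw_nat (φ : B →ₐ[R] C) (l : List idx) : Pt.map φ (nw E B l) = nw E C l := by
  induction l with
  | nil => exact Pt.map_one φ
  | cons a l ih => rw [nw_cons, nw_cons, Pt.map_mul, ih, E.nn_nat]

/-- conjugation of root groups by words -/
lemma conj_nw {l : List idx} (hl : ∀ a ∈ l, a ∈ b.support) (c : idx) :
    ∃ r : Rˣ, ∀ {B : Type u} [CommRing B] [Algebra R B] (x : B),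
      nw E B l * E.uu c B x * (nw E B l)⁻¹ = E.uu (wp P l c) B (algebraMap R B r * x) := by
  induction l with
  | nil => exact ⟨1, fun x => by simp⟩
  | cons a l ih =>
    obtain ⟨r, hr⟩ := ih (fun c hc => hl c (List.mem_cons_of_mem _ hc))
    obtain ⟨s, hs⟩ := E.nn_conj (hl a List.mem_cons_self) (wp P l c)
    refine ⟨s * r, fun {B} _ _ x => ?_⟩
    rw [nw_cons, wp_cons, Equiv.Perm.mul_apply, Units.val_mul, map_mul, mul_assoc (algebraMap R B s),
      ← hs, ← hr]
    group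

/-- inverse conjugation of root groups by words -/
lemma conj_nw_inv {l : List idx} (hl : ∀ a ∈ l, a ∈ b.support) (c : idx) :
    ∃ r : Rˣ, ∀ {B : Type u} [CommRing B] [Algebra R B] (x : B),
      (nw E B l)⁻¹ * E.uu c B x * nw E B l = E.uu ((wp P l).symm c) B (algebraMap R B r * x) := by
  obtain ⟨r, hr⟩ := conj_nw E hl ((wp P l).symm c)
  refine ⟨r⁻¹, fun {B} _ _ x => ?_⟩
  have h := hr (algebraMap R B ((r⁻¹ : Rˣ) : R) * x)
  rw [Equiv.apply_symm_apply, ← mul_assoc, ← map_mul, Units.mul_inv, map_one, one_mul] at h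
  rw [← h]; group

/-- words normalise the torus -/
lemma conj_nw_i {l : List idx} (hl : ∀ a ∈ l, a ∈ b.support) (t : TPt M B) :
    ∃ t' : TPt M B, nw E B l * E.i B t * (nw E B l)⁻¹ = E.i B t' := by
  induction l with
  | nil => exact ⟨t, by simp⟩
  | cons a l ih =>
    obtain ⟨t', ht'⟩ := ih (fun c hc => hl c (List.mem_cons_of_mem _ hc))
    refine ⟨t' * (TPt.cow (P.coroot a) (t' (Multiplicative.ofAdd (P.root a))))⁻¹, ?_⟩
    rw [← nn_conj_i E (hl a List.mem_cons_self), ← ht', nw_cons]; group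

/-- torus points commute -/
lemma i_conj_i (s t : TPt M B) : E.i B s * E.i B t * (E.i B s)⁻¹ = E.i B t := by
  rw [← i_inv, ← map_mul, ← map_mul]
  refine congrArg (E.i B) ?_
  have h : s * t = t * s := mul_comm s t
  rw [h]
  exact mul_inv_cancel_right t s

/-- `n_a⁻¹` normalises the torus -/
lemma nn_inv_conj_i {a : idx} (ha : a ∈ b.support) (t : TPt M B) :
    (E.nn a B)⁻¹ * E.i B t * E.nn a B =
      E.i B (t * (TPt.cow (P.coroot a) (t (Multiplicative.ofAdd (P.root a))))⁻¹) := by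
  calc (E.nn a B)⁻¹ * E.i B t * E.nn a B = (E.nn a B)⁻¹ * E.i B t * ((E.nn a B)⁻¹)⁻¹ := by
        rw [inv_inv]
    _ = (E.i B (TPt.cow (P.coroot a) (-1)) * E.nn a B) * E.i B t *
        (E.i B (TPt.cow (P.coroot a) (-1)) * E.nn a B)⁻¹ := by rw [nn_inv E ha]
    _ = E.i B (TPt.cow (P.coroot a) (-1)) * (E.nn a B * E.i B t * (E.nn a B)⁻¹) *
        (E.i B (TPt.cow (P.coroot a) (-1)))⁻¹ := by group
    _ = _ := by rw [nn_conj_i E ha, i_conj_i]

/-- inverses of words normalise the torus -/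
lemma conj_nw_inv_i {l : List idx} (hl : ∀ a ∈ l, a ∈ b.support) (t : TPt M B) :
    ∃ t' : TPt M B, (nw E B l)⁻¹ * E.i B t * nw E B l = E.i B t' := by
  induction l generalizing t with
  | nil => exact ⟨t, by simp⟩
  | cons a l ih =>
    obtain ⟨t', ht'⟩ := ih (fun c hc => hl c (List.mem_cons_of_mem _ hc))
      (t * (TPt.cow (P.coroot a) (t (Multiplicative.ofAdd (P.root a))))⁻¹)
    refine ⟨t', ?_⟩
    rw [← ht', ← nn_inv_conj_i E (hl a List.mem_cons_self), nw_cons]; group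

end Groth.Agent.RedSub.H638.WeylBase
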