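import Mathlib.LinearAlgebra.RootSystem.Finite.Nondegenerate
import Mathlib.LinearAlgebra.RootSystem.Base
import Mathlib.LinearAlgebra.Matrix.ToLin
import Mathlib.Data.Matrix.Mul
import Mathlib.Data.Nat.Factorial.Basic
import Mathlib.Algebra.Group.Subgroup.Finite
import Mathlib.LinearAlgebra.FreeModule.Finite.Basic
import Mathlib.Data.Matrix.Block

/-!
# Integral representations of root data: minuscule part and direct sums

`PreRep P b`: a free ℤ-module with a basis indexed by a finite type `J`, graded by weights in `M`,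
with operators `e i`, `f i` (`i` simple) of weights `± root i` whose divided powers are integral and
which satisfy `[e i, f i] = ⟨·, coroot i⟩`, `[e i, f j] = 0`.

* `exists_small`: every coset of the root lattice contains a weight `m` with `|⟨m, coroot a⟩| ≤ 1`
  for all roots `a`.
* `PreRep.small m₀`: the minuscule representation on all such weights in the coset of `m₀`.
* `PreRep.sum`, `PreRep.sigma`: direct sums.
-/

set_option autoImplicit false

open Matrix

namespace Groth.Agent.RedSub.H638.MinRep

variable {ι M N : Type} [AddCommGroup M] [AddCommGroup N]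

/-- A partial integral representation of a root datum with a base (no generation or primitivity
condition). -/
structure PreRep (P : RootPairing ι ℤ M N) (b : P.Base) where
  /-- index set of the basis of weight vectors -/
  J : Type
  [fintypeJ : Fintype J]
  [decEqJ : DecidableEq J]
  /-- the weights -/
  wt : J → M
  /-- simple root vectors -/
  e : b.support → Matrix J J ℤ
  /-- negative simple root vectors -/
  f : b.support → Matrix J J ℤ
  e_wt : ∀ (i : b.support) (j k : J), e i j k ≠ 0 → wt j = wt k + P.root i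
  f_wt : ∀ (i : b.support) (j k : J), f i j k ≠ 0 → wt j = wt k + -P.root i
  lie_same : ∀ i : b.support, e i * f i - f i * e i = Matrix.diagonal fun j => P.coroot' i (wt j)
  lie_ne : ∀ i j : b.support, i ≠ j → e i * f j = f j * e i
  e_div : ∀ (i : b.support) (n : ℕ), ∃ X : Matrix J J ℤ, (n.factorial : ℤ) • X = e i ^ n
  f_div : ∀ (i : b.support) (n : ℕ), ∃ X : Matrix J J ℤ, (n.factorial : ℤ) • X = f i ^ n

attribute [instance] PreRep.fintypeJ PreRep.decEqJ

/-! ### small weights -/

section small

variable (P : RootPairing ι ℤ M N)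

/-- the small weights in the coset of `m₀` modulo the root lattice -/
@[ext] structure Small (m₀ : M) where
  /-- the weight -/
  val : M
  mem : val - m₀ ∈ P.rootSpan ℤ
  small : ∀ a, |P.coroot' a val| ≤ 1

variable {P}

lemma coroot'_root_self (a : ι) : P.coroot' a (P.root a) = 2 := P.root_coroot_two a

/-- moving a small weight by a reflection -/
def Small.refl {m₀ : M} (x : Small P m₀) (a : ι) : Small P m₀ where
  val := P.reflection a x.val
  mem := by
    rw [P.reflection_apply]
    have h : x.val - P.coroot' a x.val • P.root a - m₀ =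
        (x.val - m₀) - P.coroot' a x.val • P.root a := by abel
    have h' := Submodule.sub_mem _ x.mem (Submodule.smul_mem (P.rootSpan ℤ) (P.coroot' a x.val)
      (Submodule.subset_span ⟨a, rfl⟩ : P.root a ∈ P.rootSpan ℤ))
    rw [← h] at h'
    exact h'
  small c := by
    rw [P.coroot'_reflection]
    exact x.small _

lemma Small.coroot_cases {m₀ : M} (x : Small P m₀) (a : ι) : P.coroot' a x.val = -1 ∨
    P.coroot' a x.val = 0 ∨ P.coroot' a x.val = 1 := by
  have := abs_le.mp (x.small a)
  omega

lemma Small.refl_val {m₀ : M} (x : Small P m₀) (a : ι) :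
    (x.refl a).val = x.val - P.coroot' a x.val • P.root a := P.reflection_apply a x.val

variable [Finite ι]

lemma eq_zero_of_coroot {x : M} (hx : x ∈ P.rootSpan ℤ) (h : ∀ a, P.coroot' a x = 0) : x = 0 := by
  have := Fintype.ofFinite ι
  apply P.eq_zero_of_mem_rootSpan_of_rootForm_self_eq_zero hx
  rw [P.rootForm_apply_apply]
  exact Finset.sum_eq_zero fun a _ => by rw [h a, mul_zero]

instance finite_small (m₀ : M) : Finite (Small P m₀) := by
  let F : Small P m₀ → (ι → Set.Icc (-1 : ℤ) 1) := fun x a =>
    ⟨P.coroot' a x.val, by rw [Set.mem_Icc, ← abs_le]; exact x.small a⟩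
  refine Finite.of_injective F ?_
  intro x y h
  apply Small.ext
  rw [← sub_eq_zero]
  apply eq_zero_of_coroot (P := P)
  · have := (P.rootSpan ℤ).sub_mem x.mem y.mem
    simpa using this
  · intro a
    have := congrArg Subtype.val (congrFun h a)
    change P.coroot' a x.val = P.coroot' a y.val at this
    rw [map_sub, this, sub_self]

/-- **Small weights exist** in every coset of the root lattice. -/
theorem exists_small (m : M) : ∃ m₀ : M, m - m₀ ∈ P.rootSpan ℤ ∧ ∀ a, |P.coroot' a m₀| ≤ 1 := by
  classical
  have := Fintype.ofFinite ι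
  -- the norm
  let q : M → ℕ := fun x => (P.RootForm x x).toNat
  have hq : ∀ x, (q x : ℤ) = P.RootForm x x := fun x => Int.toNat_of_nonneg (P.zero_le_rootForm x)
  obtain ⟨m₀, hm₀, hmin⟩ : ∃ m₀ : M, m - m₀ ∈ P.rootSpan ℤ ∧
      ∀ x : M, m - x ∈ P.rootSpan ℤ → q m₀ ≤ q x := by
    let s : Set ℕ := q '' {x | m - x ∈ P.rootSpan ℤ}
    have hs : s.Nonempty := ⟨q m, m, by simp, rfl⟩
    obtain ⟨m₀, hm₀, h⟩ := Nat.sInf_mem hs
    refine ⟨m₀, hm₀, fun x hx => ?_⟩
    rw [h]
    exact Nat.sInf_le ⟨x, hx, rfl⟩
  refine ⟨m₀, hm₀, ?_⟩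
  have hle : ∀ a, P.coroot' a m₀ ≤ 1 := by
    intro a
    by_contra hlt
    push Not at hlt
    have hB : 2 * P.RootForm m₀ (P.root a) =
        P.coroot' a m₀ * P.RootForm (P.root a) (P.root a) := by
      have h1 := P.rootForm_reflection_reflection_apply a m₀ (P.root a)
      rw [P.reflection_apply, P.reflection_apply_self, map_sub, map_smul, LinearMap.sub_apply,
        LinearMap.smul_apply, map_neg, map_neg, smul_eq_mul] at h1
      linarith
    have hpos : 0 < P.RootForm (P.root a) (P.root a) :=
      P.rootForm_pos_of_ne_zero (Submodule.subset_span ⟨a, rfl⟩) (P.ne_zero a)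
    have hsymm : P.RootForm (P.root a) m₀ = P.RootForm m₀ (P.root a) := by
      rw [P.rootForm_apply_apply, P.rootForm_apply_apply]
      exact Finset.sum_congr rfl fun i _ => mul_comm _ _
    have h2 : P.RootForm (m₀ - P.root a) (m₀ - P.root a) < P.RootForm m₀ m₀ := by
      simp only [map_sub, LinearMap.sub_apply, hsymm]
      nlinarith
    have h3 := hmin (m₀ - P.root a) (by
      have h4 : m - (m₀ - P.root a) = (m - m₀) + P.root a := by abel
      rw [h4]
      exact Submodule.add_mem _ hm₀ (Submodule.subset_span ⟨a, rfl⟩))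
    have h4 : (q m₀ : ℤ) ≤ q (m₀ - P.root a) := by exact_mod_cast h3
    rw [hq, hq] at h4
    omega
  intro a
  rw [abs_le]
  refine ⟨?_, hle a⟩
  have h1 := hle (P.reflectionPerm a a)
  have h2 : P.coroot' (P.reflectionPerm a a) m₀ = - P.coroot' a m₀ := by
    have h3 : P.coroot (P.reflectionPerm a a) = - P.coroot a := by simp
    rw [RootPairing.coroot', RootPairing.coroot', h3, map_neg, LinearMap.neg_apply]
  rw [h2] at h1
  omega

end small

/-! ### the minuscule matrices -/

section matrices

variable {P : RootPairing ι ℤ M N} {m₀ : M}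

lemma sum_ite_unique {J : Type} [Fintype J] (p : J → Prop) [DecidablePred p]
    (h : ∀ y y', p y → p y' → y = y') :
    (∑ y, if p y then (1 : ℤ) else 0) = if ∃ y, p y then 1 else 0 := by
  classical
  split_ifs with hex
  · obtain ⟨y, hy⟩ := hex
    rw [Finset.sum_eq_single y, if_pos hy]
    · intro z _ hz
      exact if_neg fun hpz => hz (h z y hpz hy)
    · intro hy'
      exact absurd (Finset.mem_univ y) hy'
  · apply Finset.sum_eq_zero
    intro y _
    exact if_neg fun hy => hex ⟨y, hy⟩

open Classical in
/-- raising matrices on the small weights -/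
noncomputable def eS (P : RootPairing ι ℤ M N) (m₀ : M) (i : ι) :
    Matrix (Small P m₀) (Small P m₀) ℤ :=
  fun x y => if P.coroot' i y.val = -1 ∧ x.val = y.val + P.root i then 1 else 0

variable [Fintype (Small P m₀)]

lemma eS_mul_transpose (i j : ι) (x z : Small P m₀) : (eS P m₀ i * (eS P m₀ j)ᵀ) x z =
    open Classical in if ∃ y : Small P m₀, (P.coroot' i y.val = -1 ∧ x.val = y.val + P.root i) ∧
      (P.coroot' j y.val = -1 ∧ z.val = y.val + P.root j) then 1 else 0 := by
  classical
  rw [Matrix.mul_apply, ← sum_ite_unique]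
  · apply Finset.sum_congr rfl
    intro y _
    simp only [eS, Matrix.transpose_apply]
    rw [ite_zero_mul_ite_zero, one_mul]
  · rintro y y' ⟨⟨_, h1⟩, _⟩ ⟨⟨_, h2⟩, _⟩
    apply Small.ext
    exact add_right_cancel (h1.symm.trans h2)

lemma transpose_mul_eS (i j : ι) (x z : Small P m₀) : ((eS P m₀ j)ᵀ * eS P m₀ i) x z =
    open Classical in if ∃ y : Small P m₀, (P.coroot' j x.val = -1 ∧ y.val = x.val + P.root j) ∧
      (P.coroot' i z.val = -1 ∧ y.val = z.val + P.root i) then 1 else 0 := by
  classical
  rw [Matrix.mul_apply, ← sum_ite_unique]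
  · apply Finset.sum_congr rfl
    intro y _
    simp only [eS, Matrix.transpose_apply]
    rw [ite_zero_mul_ite_zero, one_mul]
  · rintro y y' ⟨⟨_, h1⟩, _⟩ ⟨⟨_, h2⟩, _⟩
    apply Small.ext
    exact h1.trans h2.symm

lemma eS_mul_eS (i : ι) : eS P m₀ i * eS P m₀ i = 0 := by
  classical
  ext x z
  rw [Matrix.mul_apply, Matrix.zero_apply]
  apply Finset.sum_eq_zero
  intro y _
  simp only [eS]
  split_ifs with h1 h2
  · exfalso
    have h3 := h1.1
    rw [h2.2, map_add, h2.1, coroot'_root_self] at h3
    omega
  all_goals simp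

lemma eS_lie_same [DecidableEq (Small P m₀)] (i : ι) :
    eS P m₀ i * (eS P m₀ i)ᵀ - (eS P m₀ i)ᵀ * eS P m₀ i =
    Matrix.diagonal fun x => P.coroot' i x.val := by
  classical
  ext x z
  rw [Matrix.sub_apply, eS_mul_transpose, transpose_mul_eS, Matrix.diagonal_apply]
  by_cases hxz : x = z
  · subst hxz
    rw [if_pos rfl]
    have e1 : (∃ y : Small P m₀, (P.coroot' i y.val = -1 ∧ x.val = y.val + P.root i) ∧
      (P.coroot' i y.val = -1 ∧ x.val = y.val + P.root i)) ↔ P.coroot' i x.val = 1 := by
      constructor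
      · rintro ⟨y, ⟨h1, h2⟩, -⟩
        rw [h2, map_add, h1, coroot'_root_self]; norm_num
      · intro h
        have h1 : (x.refl i).val = x.val - P.root i := by rw [x.refl_val, h, one_smul]
        have h2 : P.coroot' i (x.refl i).val = -1 := by
          rw [h1, map_sub, h, coroot'_root_self]; norm_num
        exact ⟨x.refl i, ⟨h2, by rw [h1, sub_add_cancel]⟩, h2, by rw [h1, sub_add_cancel]⟩
    have e2 : (∃ y : Small P m₀, (P.coroot' i x.val = -1 ∧ y.val = x.val + P.root i) ∧
      (P.coroot' i x.val = -1 ∧ y.val = x.val + P.root i)) ↔ P.coroot' i x.val = -1 := by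
      constructor
      · rintro ⟨y, ⟨h1, h2⟩, -⟩
        exact h1
      · intro h
        have h1 : (x.refl i).val = x.val + P.root i := by rw [x.refl_val, h, neg_smul, one_smul, sub_neg_eq_add]
        exact ⟨x.refl i, ⟨h, h1⟩, h, h1⟩
    simp only [e1, e2]
    rcases x.coroot_cases i with h | h | h <;> rw [h] <;> norm_num
  · rw [if_neg hxz, if_neg, if_neg, sub_zero]
    · rintro ⟨y, ⟨_, h1⟩, _, h2⟩
      exact hxz (Small.ext (add_right_cancel (h1.symm.trans h2)))
    · rintro ⟨y, ⟨_, h1⟩, _, h2⟩
      exact hxz (Small.ext (h1.trans h2.symm))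

lemma eS_lie_ne [Finite ι] {b : P.Base} {i j : ι} (hi : i ∈ b.support) (hj : j ∈ b.support)
    (hij : i ≠ j) : eS P m₀ i * (eS P m₀ j)ᵀ = (eS P m₀ j)ᵀ * eS P m₀ i := by
  classical
  have : Module.IsReflexive ℤ M := .of_isPerfPair P.toLinearMap
  have : Module.IsReflexive ℤ N := .of_isPerfPair P.flip.toLinearMap
  have hneg : P.coroot' j (P.root i) ≤ 0 := by
    have h := b.pairingIn_le_zero_of_ne hij hi hj
    have h2 := P.algebraMap_pairingIn ℤ i j
    change P.pairing i j ≤ 0
    rw [← h2]
    exact h
  have hneg' : P.coroot' i (P.root j) ≤ 0 := by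
    have h := b.pairingIn_le_zero_of_ne hij.symm hj hi
    have h2 := P.algebraMap_pairingIn ℤ j i
    change P.pairing j i ≤ 0
    rw [← h2]
    exact h
  have hzero : P.coroot' j (P.root i) = 0 ↔ P.coroot' i (P.root j) = 0 := by
    exact P.pairing_eq_zero_iff
  ext x z
  rw [eS_mul_transpose, transpose_mul_eS]
  congr 1
  rw [eq_iff_iff]
  constructor
  · rintro ⟨y, ⟨h1, h2⟩, h3, h4⟩
    have h5 := abs_le.mp (x.small j)
    rw [h2, map_add, h3] at h5
    have h6 : P.coroot' j (P.root i) = 0 := by omega
    have h7 := hzero.mp h6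
    have h8 : P.coroot' j x.val = -1 := by rw [h2, map_add, h3, h6, add_zero]
    have h9 : P.coroot' i z.val = -1 := by rw [h4, map_add, h1, h7, add_zero]
    have h10 : (x.refl j).val = x.val + P.root j := by
      rw [x.refl_val, h8, neg_smul, one_smul, sub_neg_eq_add]
    refine ⟨x.refl j, ⟨h8, h10⟩, h9, ?_⟩
    rw [h10, h2, h4]; abel
  · rintro ⟨y, ⟨h1, h2⟩, h3, h4⟩
    have hyj : P.coroot' j y.val = 1 := by rw [h2, map_add, h1, coroot'_root_self]; norm_num
    have hyi : P.coroot' i y.val = 1 := by rw [h4, map_add, h3, coroot'_root_self]; norm_num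
    have hx : x.val = y.val - P.root j := by rw [h2]; abel
    have hz : z.val = y.val - P.root i := by rw [h4]; abel
    have h5 := abs_le.mp (x.small i)
    rw [hx, map_sub, hyi] at h5
    have h7 : P.coroot' i (P.root j) = 0 := by omega
    have h6 := hzero.mpr h7
    have hxi : P.coroot' i x.val = 1 := by rw [hx, map_sub, hyi, h7, sub_zero]
    have h10 : (x.refl i).val = x.val - P.root i := by rw [x.refl_val, hxi, one_smul]
    refine ⟨x.refl i, ⟨?_, ?_⟩, ?_, ?_⟩
    · rw [h10, map_sub, hxi, coroot'_root_self]; norm_num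
    · rw [h10]; abel
    · rw [h10, map_sub, h1, h6]; norm_num
    · rw [h10, hx, hz]; abel

end matrices

/-- **The minuscule representation** on the small weights in the coset of `m₀`. -/
noncomputable def PreRep.small [Finite ι] (P : RootPairing ι ℤ M N) (b : P.Base) (m₀ : M) : PreRep P b :=
  letI : Fintype (Small P m₀) := Fintype.ofFinite _
  letI : DecidableEq (Small P m₀) := Classical.decEq _
  { J := Small P m₀
    wt := Small.val
    e := fun i => eS P m₀ i
    f := fun i => (eS P m₀ i)ᵀ
    e_wt := fun i j k h => by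
      simp only [eS, ne_eq, ite_eq_right_iff, one_ne_zero, imp_false, not_not] at h
      exact h.2
    f_wt := fun i j k h => by
      simp only [eS, Matrix.transpose_apply, ne_eq, ite_eq_right_iff, one_ne_zero, imp_false,
        not_not] at h
      rw [h.2]; abel
    lie_same := fun i => eS_lie_same (i : ι)
    lie_ne := fun i j hij => eS_lie_ne i.2 j.2 (fun h => hij (Subtype.ext h))
    e_div := fun i n => by
      rcases n with _ | _ | n
      · exact ⟨1, by simp⟩
      · exact ⟨eS P m₀ i, by simp⟩
      · refine ⟨0, ?_⟩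
        rw [smul_zero, pow_succ, pow_succ, mul_assoc, eS_mul_eS, mul_zero]
    f_div := fun i n => by
      rcases n with _ | _ | n
      · exact ⟨1, by simp⟩
      · exact ⟨(eS P m₀ i)ᵀ, by simp⟩
      · refine ⟨0, ?_⟩
        rw [smul_zero, pow_succ, pow_succ, mul_assoc, ← Matrix.transpose_mul, eS_mul_eS,
          Matrix.transpose_zero, mul_zero] }

end Groth.Agent.RedSub.H638.MinRep
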