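import Groth.Agent.RedSub.H638.MinRep
import Groth.Agent.RedSub.H507.Input
import Groth.Agent.RedSub.H630.ChevDefs

/-!
# Direct sums of integral representations; from an adjoint-type representation to Chevalley matrices

* `PreRep.sigma`: finite direct sums.
* `exists_generating`: adding minuscule representations makes the weights generate the character
  lattice.
* `nonempty_chevMat_of_preRep`, `nonempty_intRep_of_preRep`: a representation whose weights include
  the roots, each `e i`, `f i` having a unit entry, gives `ChevMat` and `IntRep`.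
-/

set_option autoImplicit false

open Matrix

namespace Groth.Agent.RedSub.H638.MinSum

open Groth.Agent.RedSub.H638.MinRep

variable {ι M N : Type} [AddCommGroup M] [AddCommGroup N] {P : RootPairing ι ℤ M N} {b : P.Base}

/-- finite direct sums of representations -/
noncomputable def sigma {κ : Type} [Fintype κ] [DecidableEq κ] (V : κ → PreRep P b) : PreRep P b where
  J := Σ k, (V k).J
  wt j := (V j.1).wt j.2
  e i := Matrix.blockDiagonal' fun k => (V k).e i
  f i := Matrix.blockDiagonal' fun k => (V k).f i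
  e_wt i j k h := by
    obtain ⟨j₁, j₂⟩ := j
    obtain ⟨k₁, k₂⟩ := k
    by_cases hjk : j₁ = k₁
    · subst hjk
      rw [Matrix.blockDiagonal'_apply_eq] at h
      exact (V j₁).e_wt i j₂ k₂ h
    · exact absurd (Matrix.blockDiagonal'_apply_ne _ _ _ hjk) h
  f_wt i j k h := by
    obtain ⟨j₁, j₂⟩ := j
    obtain ⟨k₁, k₂⟩ := k
    by_cases hjk : j₁ = k₁
    · subst hjk
      rw [Matrix.blockDiagonal'_apply_eq] at h
      exact (V j₁).f_wt i j₂ k₂ h
    · exact absurd (Matrix.blockDiagonal'_apply_ne _ _ _ hjk) h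
  lie_same i := by
    rw [← Matrix.blockDiagonal'_mul, ← Matrix.blockDiagonal'_mul, ← Matrix.blockDiagonal'_sub]
    have h : ((fun k => (V k).e i * (V k).f i) - fun k => (V k).f i * (V k).e i) =
        fun k => Matrix.diagonal fun j => P.coroot' i ((V k).wt j) := by
      funext k
      exact (V k).lie_same i
    rw [h, Matrix.blockDiagonal'_diagonal]
  lie_ne i j hij := by
    rw [← Matrix.blockDiagonal'_mul, ← Matrix.blockDiagonal'_mul]
    congr 1
    funext k
    exact (V k).lie_ne i j hij
  e_div i n := by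
    choose X hX using fun k => (V k).e_div i n
    refine ⟨Matrix.blockDiagonal' X, ?_⟩
    rw [← Matrix.blockDiagonal'_smul, ← Matrix.blockDiagonal'_pow]
    congr 1
    funext k
    exact hX k
  f_div i n := by
    choose X hX using fun k => (V k).f_div i n
    refine ⟨Matrix.blockDiagonal' X, ?_⟩
    rw [← Matrix.blockDiagonal'_smul, ← Matrix.blockDiagonal'_pow]
    congr 1
    funext k
    exact hX k

/-- Adding minuscule representations to `V` makes the weights generate. -/
theorem exists_generating [Finite ι] [Module.Finite ℤ M] (V : PreRep P b)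
    (hroot : ∀ a, P.root a ∈ Submodule.span ℤ (Set.range V.wt)) :
    ∃ W : PreRep P b, Submodule.span ℤ (Set.range W.wt) = ⊤ ∧
      (∀ i, (∃ j k, IsUnit (V.e i j k)) → ∃ j k, IsUnit (W.e i j k)) ∧
      (∀ i, (∃ j k, IsUnit (V.f i j k)) → ∃ j k, IsUnit (W.f i j k)) ∧
      ∀ i, (∃ j k, V.e i j k = 1) → ∃ j k, W.e i j k = 1 := by
  classical
  obtain ⟨s, hs⟩ := Module.Finite.fg_top (R := ℤ) (M := M)
  choose g hg1 hg2 using fun m : M => exists_small (P := P) m
  let U : Option s → PreRep P b := fun k => k.elim V (fun m => PreRep.small P b (g m.1))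
  refine ⟨sigma U, ?_, ?_, ?_, ?_⟩
  · have hVle : Set.range V.wt ⊆ Set.range (sigma U).wt := by
      rintro _ ⟨j, rfl⟩
      exact ⟨⟨none, j⟩, rfl⟩
    have hle : P.rootSpan ℤ ≤ Submodule.span ℤ (Set.range (sigma U).wt) := by
      rw [RootPairing.rootSpan, Submodule.span_le]
      rintro _ ⟨a, rfl⟩
      exact Submodule.span_mono hVle (hroot a)
    rw [eq_top_iff, ← hs, Submodule.span_le]
    intro m hm
    have h1 : g m ∈ Submodule.span ℤ (Set.range (sigma U).wt) := by
      apply Submodule.subset_span
      refine ⟨⟨some ⟨m, hm⟩, (⟨g m, ?_, hg2 m⟩ : Small P (g m))⟩, rfl⟩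
      rw [sub_self]
      exact Submodule.zero_mem _
    have h2 := Submodule.add_mem _ (hle (hg1 m)) h1
    rw [sub_add_cancel] at h2
    exact h2
  · rintro i ⟨j, k, h⟩
    refine ⟨⟨none, j⟩, ⟨none, k⟩, ?_⟩
    change IsUnit (Matrix.blockDiagonal' (fun k => (U k).e i) ⟨none, j⟩ ⟨none, k⟩)
    rw [Matrix.blockDiagonal'_apply_eq]
    exact h
  · rintro i ⟨j, k, h⟩
    refine ⟨⟨none, j⟩, ⟨none, k⟩, ?_⟩
    change IsUnit (Matrix.blockDiagonal' (fun k => (U k).f i) ⟨none, j⟩ ⟨none, k⟩)
    rw [Matrix.blockDiagonal'_apply_eq]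
    exact h
  · rintro i ⟨j, k, h⟩
    refine ⟨⟨none, j⟩, ⟨none, k⟩, ?_⟩
    change Matrix.blockDiagonal' (fun k => (U k).e i) ⟨none, j⟩ ⟨none, k⟩ = 1
    rw [Matrix.blockDiagonal'_apply_eq]
    exact h

/-- From a representation whose weights include the roots to Chevalley matrices. -/
theorem nonempty_chevMat_of_preRep [Finite ι] [Module.Finite ℤ M]
    {P : RootPairing ι ℤ M (Module.Dual ℤ M)} {b : P.Base} (V : PreRep P b)
    (hroot : ∀ a, P.root a ∈ Submodule.span ℤ (Set.range V.wt))
    (he : ∀ i, ∃ j k, IsUnit (V.e i j k)) (hf : ∀ i, ∃ j k, IsUnit (V.f i j k)) :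
    Nonempty (H630.ChevDefs.ChevMat P b) := by
  obtain ⟨W, h1, h2, h3, -⟩ := exists_generating V hroot
  exact ⟨{ J := W.J
           wt := W.wt
           e := W.e
           f := W.f
           e_wt := W.e_wt
           f_wt := W.f_wt
           lie_same := W.lie_same
           lie_ne := W.lie_ne
           e_div := W.e_div
           f_div := W.f_div
           e_prim := fun i => h2 i (he i)
           f_prim := fun i => h3 i (hf i)
           span_wt := h1 }⟩

end Groth.Agent.RedSub.H638.MinSum
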