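import Groth.Prelude.Def_RedSub

/-!
# Morphisms separating the cosets of a subgroup

If `o : G ⟶ Y` (over `S`) separates exactly the cosets `g P`, then `G × P` is the kernel pair of `o`.
-/

set_option autoImplicit false
universe u
open CategoryTheory Limits MonoidalCategory CartesianMonoidalCategory MonObj GrpObj AlgebraicGeometry

namespace Groth.Agent.RedSub.H638.OrbPull

variable {S : Scheme.{u}} {G P : Over S} [GrpObj G] {p : P ⟶ G} {Y : Scheme.{u}} {o : G.left ⟶ Y}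

theorem act_eq (p : P ⟶ G) : (G ◁ p) ≫ μ[G] = fst G P * (snd G P ≫ p) := by
  rw [Hom.mul_def]
  congr 1

theorem comp_act {T : Over S} (p : P ⟶ G) (z : T ⟶ G ⊗ P) :
    z ≫ (G ◁ p) ≫ μ[G] = (z ≫ fst G P) * (z ≫ snd G P ≫ p) := by
  rw [act_eq, MonObj.comp_mul]

/-- `o` separates exactly the cosets of `P` -/
def IsOrb (p : P ⟶ G) (o : G.left ⟶ Y) : Prop :=
  ∀ (T : Over S) (x y : T ⟶ G), x.left ≫ o = y.left ≫ o ↔ ∃ z : T ⟶ P, y = x * (z ≫ p)

theorem IsOrb.isPullback [Mono p] (ho : IsOrb p o) {s : Y ⟶ S} (hs : o ≫ s = G.hom) :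
    IsPullback (fst G P).left ((G ◁ p) ≫ μ[G]).left o o := by
  have w : (fst G P).left ≫ o = ((G ◁ p) ≫ μ[G]).left ≫ o :=
    (ho _ (fst G P) ((G ◁ p) ≫ μ[G])).mpr ⟨snd G P, act_eq p⟩
  have key : ∀ {T : Scheme.{u}} (a b : T ⟶ G.left) (hab : a ≫ o = b ≫ o),
      ∃ m : T ⟶ (G ⊗ P).left, m ≫ (fst G P).left = a ∧ m ≫ ((G ◁ p) ≫ μ[G]).left = b ∧
        ∀ m' : T ⟶ (G ⊗ P).left, m' ≫ (fst G P).left = a → m' ≫ ((G ◁ p) ≫ μ[G]).left = b →
          m' = m := by
    intro T a b hab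
    have hb : b ≫ G.hom = a ≫ G.hom := by
      rw [← hs, ← Category.assoc, ← hab, Category.assoc]
    let x : Over.mk (a ≫ G.hom) ⟶ G := Over.homMk a rfl
    let y : Over.mk (a ≫ G.hom) ⟶ G := Over.homMk b hb
    obtain ⟨z, hz⟩ := (ho _ x y).mp hab
    have h1 : lift x z ≫ (G ◁ p) ≫ μ[G] = y := by
      rw [comp_act, lift_fst, lift_snd_assoc, hz]
    refine ⟨(lift x z).left, ?_, ?_, ?_⟩
    · rw [← Over.comp_left, lift_fst]
      rfl
    · rw [← Over.comp_left, h1]
      rfl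
    · intro m' h2 h3
      let m'' : Over.mk (a ≫ G.hom) ⟶ G ⊗ P := Over.homMk m' (by
        rw [← Over.w (fst G P), ← Category.assoc, h2]
        rfl)
      have h4 : m'' ≫ fst G P = x := by
        ext1; exact h2
      have h5 : m'' ≫ (G ◁ p) ≫ μ[G] = y := by
        ext1; exact h3
      rw [comp_act, h4, hz, mul_right_inj] at h5
      have h6 : m'' ≫ snd G P = z := by
        rw [← cancel_mono p, Category.assoc]; exact h5
      have h7 : m'' = lift x z := by
        rw [← h4, ← h6]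
        ext <;> simp
      exact congrArg (fun t => t.left) h7
  refine ⟨⟨w⟩, ⟨PullbackCone.IsLimit.mk w (fun c => (key c.fst c.snd c.condition).choose)
    (fun c => (key c.fst c.snd c.condition).choose_spec.1)
    (fun c => (key c.fst c.snd c.condition).choose_spec.2.1)
    (fun c m h1 h2 => (key c.fst c.snd c.condition).choose_spec.2.2 m h1 h2)⟩⟩

end Groth.Agent.RedSub.H638.OrbPull
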