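import Groth.Agent.CycA.MovVec
import Groth.Prelude.Def_CohB1

/-!
# Morphisms to projective space given by unimodular vectors of functions

`projMap v hv s : X ⟶ P^n_S`, and `comp_projMap_eq_iff`: two points `x`, `y` of `X` have the same image iff they have the
same image in `S` and `y^* v = c x^* v` for a unit `c`.
-/

set_option autoImplicit false
universe u
open CategoryTheory Limits AlgebraicGeometry

namespace Groth.Agent.RedSub.H638.ProjPt

open Groth.Agent.CycA.MovVec Groth.Agent.VarietyB.ProjStd

attribute [local instance] MvPolynomial.gradedAlgebra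

noncomputable section

variable {X T S : Scheme.{u}} {n : ℕ} (v : Fin (n + 1) → Γ(X, ⊤)) (hv : Ideal.span (Set.range v) = ⊤)

/-- the coordinate data -/
def vec : VecData X (Fin (n + 1)) (Fin (n + 1)) where
  V k := X.basicOpen (v k)
  iSup_V := by
    have h := iSup_basicOpen_of_span_eq_top (X := X) ⊤ (Set.range v) hv
    rw [iSup_range] at h
    exact h
  g k j := X.presheaf.map (homOfLE (X.basicOpen_le (v k))).op (v j)
  t k := k
  isUnit k := RingedSpace.isUnit_res_basicOpen _ (v k)
  compat α β := ⟨1, fun k => by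
    rw [map_map_apply, map_map_apply, Units.val_one, one_mul]⟩

/-- the morphism to `P^n` over `ℤ` -/
def projP : X ⟶ Proj (MvPolynomial.homogeneousSubmodule (Fin (n + 1)) (ULift.{u} ℤ)) :=
  (vec v hv).toProjSpace (specULiftZIsTerminal.from X)

theorem ratio_mul {D : VecData T (Fin (n + 1)) (Fin (n + 1))} {R : Type u} [CommRing R]
    {p : T ⟶ Spec (CommRingCat.of R)}
    {φ : T ⟶ Proj (MvPolynomial.homogeneousSubmodule (Fin (n + 1)) R)} (h : φ = D.toProjSpace p)
    (α : Fin (n + 1)) (i k : Fin (n + 1)) (W : T.Opens) (h1 : W ≤ D.V α)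
    (h2 : W ≤ φ ⁻¹ᵁ Proj.basicOpen (MvPolynomial.homogeneousSubmodule (Fin (n + 1)) R)
      (MvPolynomial.X i)) :
    T.presheaf.map (homOfLE h2).op (φ.app _ (ratio (Fin (n + 1)) R i k)) *
      T.presheaf.map (homOfLE h1).op (D.g α i) = T.presheaf.map (homOfLE h1).op (D.g α k) := by
  subst h
  exact D.map_ratio_mul p α i k W h1 h2

theorem pullback_g (x : T ⟶ X) (k j : Fin (n + 1)) :
    ((vec v hv).pullback x).g k j =
      T.presheaf.map (homOfLE (le_top : x ⁻¹ᵁ X.basicOpen (v k) ≤ ⊤)).op (x.appTop (v j)) :=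
  (map_app x (X.basicOpen_le (v k)) le_top (v j)).symm

theorem res_pullback_g (x : T ⟶ X) (a k : Fin (n + 1)) (W : T.Opens)
    (h : W ≤ ((vec v hv).pullback x).V a) :
    T.presheaf.map (homOfLE h).op (((vec v hv).pullback x).g a k) =
      T.presheaf.map (homOfLE (le_top : W ≤ ⊤)).op (x.appTop (v k)) := by
  rw [pullback_g]
  exact map_map_apply _ _ _

theorem comp_projP_eq_iff (x y : T ⟶ X) :
    x ≫ projP v hv = y ≫ projP v hv ↔
      ∃ c : Γ(T, ⊤)ˣ, ∀ k, y.appTop (v k) = c * x.appTop (v k) := by
  constructor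
  · intro h
    set p := specULiftZIsTerminal.from X
    set φ : T ⟶ Proj (MvPolynomial.homogeneousSubmodule (Fin (n + 1)) (ULift.{u} ℤ)) :=
      x ≫ projP v hv with hφ
    have e1 : φ = ((vec v hv).pullback x).toProjSpace (x ≫ p) := (vec v hv).comp_toProjSpace p x
    have e2 : φ = ((vec v hv).pullback y).toProjSpace (y ≫ p) :=
      h.trans ((vec v hv).comp_toProjSpace p y)
    have key : ∀ j k, y.appTop (v j) * x.appTop (v k) = y.appTop (v k) * x.appTop (v j) := by
      intro j k
      refine TopCat.Sheaf.eq_of_locally_eq' T.sheaf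
        (fun a : Fin (n + 1) × Fin (n + 1) =>
          ((vec v hv).pullback x).V a.1 ⊓ ((vec v hv).pullback y).V a.2) ⊤ (fun a => homOfLE le_top)
        ?_ _ _ ?_
      · intro t _
        have h1 : t ∈ (⨆ a, ((vec v hv).pullback x).V a) := by
          rw [((vec v hv).pullback x).iSup_V]; trivial
        have h2 : t ∈ (⨆ a, ((vec v hv).pullback y).V a) := by
          rw [((vec v hv).pullback y).iSup_V]; trivial
        obtain ⟨a, ha⟩ := TopologicalSpace.Opens.mem_iSup.mp h1
        obtain ⟨b, hb⟩ := TopologicalSpace.Opens.mem_iSup.mp h2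
        exact TopologicalSpace.Opens.mem_iSup.mpr ⟨(a, b), ha, hb⟩
      · rintro ⟨i, β⟩
        change T.presheaf.map (homOfLE le_top).op _ = T.presheaf.map (homOfLE le_top).op _
        have hW1 : ((vec v hv).pullback x).V i ⊓ ((vec v hv).pullback y).V β ≤
          ((vec v hv).pullback x).V i := inf_le_left
        have hW2 : ((vec v hv).pullback x).V i ⊓ ((vec v hv).pullback y).V β ≤
          ((vec v hv).pullback y).V β := inf_le_right
        have hW3 : ((vec v hv).pullback x).V i ≤ φ ⁻¹ᵁ Proj.basicOpen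
            (MvPolynomial.homogeneousSubmodule (Fin (n + 1)) (ULift.{u} ℤ)) (MvPolynomial.X i) := by
          have h3 := ((vec v hv).pullback x).preimage_inf (x ≫ p) i i
          have hu : IsUnit (((vec v hv).pullback x).g i i) := ((vec v hv).pullback x).isUnit i
          rw [← e1, Scheme.basicOpen_of_isUnit _ hu] at h3
          exact h3 ▸ inf_le_right
        have r1 := fun k => ratio_mul e1 i i k _ hW1 (hW1.trans hW3)
        have r2 := fun k => ratio_mul e2 β i k _ hW2 (hW1.trans hW3)
        simp only [res_pullback_g] at r1 r2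
        rw [map_mul, map_mul]
        have s1 := r1 j
        have s2 := r1 k
        have s3 := r2 j
        have s4 := r2 k
        rw [← s1, ← s2, ← s3, ← s4]
        ring
    obtain ⟨b, hb⟩ := (Ideal.mem_span_range_iff_exists_fun).mp
      ((Ideal.eq_top_iff_one _).mp hv)
    have hbx : ∑ k, x.appTop (b k) * x.appTop (v k) = 1 := by
      rw [← map_one x.appTop.hom, ← hb, map_sum]
      simp only [map_mul]
    have hby : ∑ k, y.appTop (b k) * y.appTop (v k) = 1 := by
      rw [← map_one y.appTop.hom, ← hb, map_sum]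
      simp only [map_mul]
    set c := ∑ j, x.appTop (b j) * y.appTop (v j) with hc
    have h1 : ∀ k, c * x.appTop (v k) = y.appTop (v k) := by
      intro k
      rw [hc, Finset.sum_mul]
      calc ∑ j, x.appTop (b j) * y.appTop (v j) * x.appTop (v k) =
            ∑ j, (x.appTop (b j) * x.appTop (v j)) * y.appTop (v k) := by
            refine Finset.sum_congr rfl fun j _ => ?_
            rw [mul_assoc, key j k]; ring
        _ = y.appTop (v k) := by rw [← Finset.sum_mul, hbx, one_mul]
    have h2 : c * (∑ k, y.appTop (b k) * x.appTop (v k)) = 1 := by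
      rw [Finset.mul_sum, ← hby]
      refine Finset.sum_congr rfl fun k _ => ?_
      rw [← h1 k]; ring
    exact ⟨Units.mkOfMulEqOne _ _ h2, fun k => (h1 k).symm⟩
  · rintro ⟨c, hc⟩
    have e1 : x ≫ projP v hv = ((vec v hv).pullback x).toProjSpace
      (x ≫ specULiftZIsTerminal.from X) := (vec v hv).comp_toProjSpace _ x
    have e2 : y ≫ projP v hv = ((vec v hv).pullback y).toProjSpace
      (y ≫ specULiftZIsTerminal.from X) := (vec v hv).comp_toProjSpace _ y
    have e3 : y ≫ specULiftZIsTerminal.from X = x ≫ specULiftZIsTerminal.from X :=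
      specULiftZIsTerminal.hom_ext _ _
    rw [e1, e2, e3]
    refine VecData.toProjSpace_congr _ _ _ fun α β => ?_
    refine ⟨Units.map (T.presheaf.map (homOfLE le_top).op).hom.toMonoidHom c⁻¹, fun k => ?_⟩
    rw [res_pullback_g, res_pullback_g, hc, map_mul, ← mul_assoc]
    symm
    refine (congrArg (fun z => z * _) ?_).trans (one_mul _)
    change (T.presheaf.map _).hom _ * (T.presheaf.map _).hom _ = 1
    rw [← map_mul, Units.inv_mul, map_one]

/-- the morphism to `P^n_S` -/
def projMap (s : X ⟶ S) : X ⟶ CohB1.ProjSpaceOver n S :=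
  pullback.lift (projP v hv : X ⟶ CohB1.ProjSpace n (ULift.{u} ℤ)) s
    (specULiftZIsTerminal.hom_ext _ _)

@[reassoc]
theorem projMap_toBase (s : X ⟶ S) : projMap v hv s ≫ CohB1.ProjSpaceOver.toBase n S = s :=
  pullback.lift_snd _ _ _

/-- the projection to `P^n` over `ℤ` -/
def prZ (n : ℕ) (S : Scheme.{u}) : CohB1.ProjSpaceOver n S ⟶ CohB1.ProjSpace n (ULift.{u} ℤ) :=
  pullback.fst _ _

@[reassoc]
theorem projMap_prZ (s : X ⟶ S) : projMap v hv s ≫ prZ n S = projP v hv :=
  pullback.lift_fst _ _ _

theorem comp_projMap_eq_iff (s : X ⟶ S) (x y : T ⟶ X) :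
    x ≫ projMap v hv s = y ≫ projMap v hv s ↔ x ≫ s = y ≫ s ∧
      ∃ c : Γ(T, ⊤)ˣ, ∀ k, y.appTop (v k) = c * x.appTop (v k) := by
  rw [← comp_projP_eq_iff v hv]
  constructor
  · intro h
    have h1 := congrArg (fun z => z ≫ CohB1.ProjSpaceOver.toBase n S) h
    have h2 := congrArg (fun z => z ≫ prZ n S) h
    simp only [Category.assoc, projMap_toBase, projMap_prZ] at h1 h2
    exact ⟨h1, h2⟩
  · rintro ⟨h1, h2⟩
    apply pullback.hom_ext
    · change (x ≫ projMap v hv s) ≫ prZ n S = (y ≫ projMap v hv s) ≫ prZ n S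
      simp only [Category.assoc, projMap_prZ]
      exact h2
    · change (x ≫ projMap v hv s) ≫ CohB1.ProjSpaceOver.toBase n S =
        (y ≫ projMap v hv s) ≫ CohB1.ProjSpaceOver.toBase n S
      simp only [Category.assoc, projMap_toBase]
      exact h1

end

end Groth.Agent.RedSub.H638.ProjPt
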