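import Groth.Agent.RedSub.H638.ParSec
import Groth.Agent.RedSub.H638.ProjPt
import Groth.Agent.RedSub.H638.OrbPull
import Groth.Agent.Books.AffBridge
import Groth.Agent.Sga3B.Parab.AffPts998

/-!
# The orbit map `G ⟶ P^n_R` of a subgroup `P` with an open cell `U × P = D(f)`
-/

set_option autoImplicit false
universe u
open CategoryTheory Limits MonoidalCategory CartesianMonoidalCategory MonObj GrpObj AlgebraicGeometry
open TensorProduct WithConv

namespace Groth.Agent.RedSub.H638.ParMap

open Groth.Agent.Books.AffBridge Groth.Agent.RedSub.H638.ParSec Groth.Agent.RedSub.H638.OrbPull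

noncomputable section

/-- An open immersion `Spec L ⟶ Spec A` with image `D(f)` is a localisation. -/
theorem away_of_openImm {A L : Type u} [CommRing A] [CommRing L] (φ : A →+* L) (f : A)
    [IsOpenImmersion (Spec.map (CommRingCat.ofHom φ))]
    (h : Set.range (Spec.map (CommRingCat.ofHom φ)) = ((PrimeSpectrum.basicOpen f : TopologicalSpace.Opens (PrimeSpectrum A)) : Set (PrimeSpectrum A))) :
    IsUnit (φ f) ∧ (∀ a, φ a = 0 → ∃ n : ℕ, f ^ n * a = 0) ∧
      (∀ z, ∃ (n : ℕ) (a : A), φ a = φ f ^ n * z) := by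
  have h2 : Set.range (Spec.map (CommRingCat.ofHom (algebraMap A (Localization.Away f)))) =
      ((PrimeSpectrum.basicOpen f : TopologicalSpace.Opens (PrimeSpectrum A)) : Set (PrimeSpectrum A)) := PrimeSpectrum.localization_away_comap_range _ f
  have h3 : IsOpenImmersion (Spec.map (CommRingCat.ofHom (algebraMap A (Localization.Away f)))) :=
    inferInstance
  let i := IsOpenImmersion.isoOfRangeEq (Spec.map (CommRingCat.ofHom φ))
    (Spec.map (CommRingCat.ofHom (algebraMap A (Localization.Away f)))) (h.trans h2.symm)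
  have hi : i.hom ≫ Spec.map (CommRingCat.ofHom (algebraMap A (Localization.Away f))) =
    Spec.map (CommRingCat.ofHom φ) := IsOpenImmersion.isoOfRangeEq_hom_fac _ _ _
  obtain ⟨θ, hθ⟩ := Spec.map_surjective i.hom
  have hθi : IsIso θ := by
    have h5 : IsIso (Spec.map θ) := by rw [hθ]; infer_instance
    have h6 : IsIso (Scheme.Spec.map θ.op) := h5
    exact (isIso_op_iff θ).mp (isIso_of_reflects_iso θ.op Scheme.Spec)
  have hφ : ∀ a, θ.hom (algebraMap A (Localization.Away f) a) = φ a := by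
    have h4 : CommRingCat.ofHom (algebraMap A (Localization.Away f)) ≫ θ = CommRingCat.ofHom φ := by
      apply Spec.map_injective
      rw [Spec.map_comp, hθ, hi]
    intro a
    exact congrArg (fun z => z.hom a) h4
  have hbij : Function.Bijective θ.hom := (ConcreteCategory.isIso_iff_bijective θ).mp hθi
  refine ⟨?_, ?_, ?_⟩
  · rw [← hφ]
    exact (IsLocalization.Away.algebraMap_isUnit f).map θ.hom
  · intro a ha
    rw [← hφ, ← map_zero θ.hom] at ha
    have h5 := hbij.1 ha
    obtain ⟨⟨_, n, rfl⟩, hn⟩ := (IsLocalization.map_eq_zero_iff (Submonoid.powers f) _ a).mp h5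
    exact ⟨n, hn⟩
  · intro z
    obtain ⟨w, rfl⟩ := hbij.2 z
    obtain ⟨⟨a, ⟨_, n, rfl⟩⟩, hn⟩ := IsLocalization.surj (Submonoid.powers f) w
    refine ⟨n, a, ?_⟩
    rw [← hφ, ← hφ, ← hn, map_mul, map_pow, map_pow, mul_comm]

variable {R : Type u} [CommRing R]

/-- every affine scheme over `Spec R` is the spectrum of an algebra -/
theorem exists_specOver (U : Over (Spec (CommRingCat.of R))) [IsAffine U.left] :
    ∃ (D : Type u) (_ : CommRing D) (_ : Algebra R D), Nonempty (U ≅ SpecOver R D) := by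
  obtain ⟨φ, hφ⟩ := Spec.map_surjective (U.left.isoSpec.inv ≫ U.hom)
  let _ : Algebra R Γ(U.left, ⊤) := φ.hom.toAlgebra
  refine ⟨Γ(U.left, ⊤), inferInstance, inferInstance, ⟨Over.isoMk U.left.isoSpec ?_⟩⟩
  change U.left.isoSpec.hom ≫ Spec.map φ = U.hom
  rw [hφ, Iso.hom_inv_id_assoc]

/-- points of the spectrum of an algebra with values in affine schemes over `Spec R` -/
theorem exists_alg {C : Type u} [CommRing C] (c : Spec (CommRingCat.of C) ⟶ Spec (CommRingCat.of R)) :
    ∃ ψ : R →+* C, c = Spec.map (CommRingCat.ofHom ψ) :=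
  ⟨(Spec.preimage c).hom, (Spec.map_preimage c).symm⟩

section tensor

variable {D B : Type u} [CommRing D] [Algebra R D] [CommRing B] [Algebra R B]
  {U P : Over (Spec (CommRingCat.of R))} (eU : U ≅ SpecOver R D) (eP : P ≅ SpecOver R B)

/-- the product of spectra -/
def kap : SpecOver R (D ⊗[R] B) ⟶ U ⊗ P :=
  lift (specMap R (Algebra.TensorProduct.includeLeft : D →ₐ[R] D ⊗[R] B) ≫ eU.inv)
    (specMap R (Algebra.TensorProduct.includeRight : B →ₐ[R] D ⊗[R] B) ≫ eP.inv)

theorem isIso_kap : IsIso (kap eU eP) := by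
  refine Groth.Agent.Sga3B.Parab.AffPts998.isIso_of_aff _ fun C _ c => ?_
  obtain ⟨ψ, rfl⟩ := exists_alg c
  let _ : Algebra R C := ψ.toAlgebra
  change Function.Bijective fun x : SpecOver R C ⟶ SpecOver R (D ⊗[R] B) => x ≫ kap eU eP
  have key : ∀ ξ : D ⊗[R] B →ₐ[R] C, specMap R ξ ≫ kap eU eP =
      lift (specMap R (ξ.comp (Algebra.TensorProduct.includeLeft : D →ₐ[R] D ⊗[R] B)) ≫ eU.inv)
        (specMap R (ξ.comp (Algebra.TensorProduct.includeRight : B →ₐ[R] D ⊗[R] B)) ≫ eP.inv) := by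
    intro ξ
    rw [kap, comp_lift, specMap_comp, specMap_comp, Category.assoc, Category.assoc]
  constructor
  · intro x y hxy
    obtain ⟨ξ, rfl⟩ : ∃ ξ, x = specMap R ξ := ⟨specPreimage R x, by simp⟩
    obtain ⟨ξ', rfl⟩ : ∃ ξ, y = specMap R ξ := ⟨specPreimage R y, by simp⟩
    simp only [key] at hxy
    have h1 := congrArg (fun z => z ≫ fst U P ≫ eU.hom) hxy
    have h2 := congrArg (fun z => z ≫ snd U P ≫ eP.hom) hxy
    simp only [lift_fst_assoc, lift_snd_assoc, Category.assoc, Iso.inv_hom_id, Category.comp_id]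
      at h1 h2
    congr 1
    exact Algebra.TensorProduct.ext (specMap_injective R h1) (specMap_injective R h2)
  · intro w
    refine ⟨specMap R (Algebra.TensorProduct.lift (specPreimage R (w ≫ fst U P ≫ eU.hom))
      (specPreimage R (w ≫ snd U P ≫ eP.hom)) (fun _ _ => .all ..)), ?_⟩
    simp only
    rw [key, Algebra.TensorProduct.lift_comp_includeLeft,
      Algebra.TensorProduct.lift_comp_includeRight', specMap_specPreimage, specMap_specPreimage]
    ext1 <;> simp

end tensor

section val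

variable {A : Type u} [CommRing A] [Algebra R A] {G : Over (Spec (CommRingCat.of R))}
  (e : G ≅ SpecOver R A)

/-- the isomorphism of schemes -/
def eL : G.left ≅ Spec (CommRingCat.of A) := (Over.forget _).mapIso e

/-- functions on `G` as elements of `A` -/
def toA : Γ(G.left, ⊤) →+* A :=
  (Scheme.ΓSpecIso (CommRingCat.of A)).hom.hom.comp (eL e).inv.appTop.hom

/-- elements of `A` as functions on `G` -/
def ofA : A →+* Γ(G.left, ⊤) :=
  (eL e).hom.appTop.hom.comp (Scheme.ΓSpecIso (CommRingCat.of A)).inv.hom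

theorem toA_ofA (a : A) : toA e (ofA e a) = a := by
  have h1 : (eL e).hom.appTop ≫ (eL e).inv.appTop = 𝟙 _ := by
    rw [← Scheme.Hom.comp_appTop, (eL e).inv_hom_id, Scheme.Hom.id_appTop]
  have h2 : (Scheme.ΓSpecIso (CommRingCat.of A)).inv ≫ (eL e).hom.appTop ≫ (eL e).inv.appTop ≫
      (Scheme.ΓSpecIso (CommRingCat.of A)).hom = 𝟙 _ := by
    rw [reassoc_of% h1, Iso.inv_hom_id]
  exact congrArg (fun z => z.hom a) h2

theorem ofA_toA (h : Γ(G.left, ⊤)) : ofA e (toA e h) = h := by
  have h1 : (eL e).inv.appTop ≫ (eL e).hom.appTop = 𝟙 _ := by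
    rw [← Scheme.Hom.comp_appTop, (eL e).hom_inv_id, Scheme.Hom.id_appTop]
  have h2 : (eL e).inv.appTop ≫ (Scheme.ΓSpecIso (CommRingCat.of A)).hom ≫
      (Scheme.ΓSpecIso (CommRingCat.of A)).inv ≫ (eL e).hom.appTop = 𝟙 _ := by
    rw [Iso.hom_inv_id_assoc, h1]
  exact congrArg (fun z => z.hom h) h2

theorem val_specMap {C : Type u} [CommRing C] [Algebra R C] (x : A →ₐ[R] C) (h : Γ(G.left, ⊤)) :
    (specMap R x ≫ e.inv).left.appTop h =
      (Scheme.ΓSpecIso (CommRingCat.of C)).inv (x (toA e h)) := by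
  have h1 : (Spec.map (CommRingCat.ofHom x.toRingHom) ≫ (eL e).inv).appTop =
      (eL e).inv.appTop ≫
      (Scheme.ΓSpecIso (CommRingCat.of A)).hom ≫ CommRingCat.ofHom x.toRingHom ≫
      (Scheme.ΓSpecIso (CommRingCat.of C)).inv := by
    rw [Scheme.Hom.comp_appTop]
    congr 1
    rw [← Scheme.ΓSpecIso_naturality_assoc, Iso.hom_inv_id, Category.comp_id]
  exact congrArg (fun z => z.hom h) h1

end val

end

end Groth.Agent.RedSub.H638.ParMap
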