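import Groth.Agent.RedSub.H638.ParMap

/-!
# The orbit map `G ⟶ P^n_R`: main theorem
-/

set_option autoImplicit false
universe u
open CategoryTheory Limits MonoidalCategory CartesianMonoidalCategory MonObj GrpObj AlgebraicGeometry
open TensorProduct WithConv

namespace Groth.Agent.RedSub.H638.ParMap2

open Groth.Agent.Books.AffBridge Groth.Agent.RedSub.H638.ParSec Groth.Agent.RedSub.H638.OrbPull
  Groth.Agent.RedSub.H638.ParMap Groth.Agent.RedSub.H638.ProjPt

noncomputable section

variable {R : Type u} [CommRing R]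

section val

variable {G : Over (Spec (CommRingCat.of R))} {C : Type u} [CommRing C] [Algebra R C]

/-- the value of a function on `G` at a point -/
def val (y : SpecOver R C ⟶ G) : Γ(G.left, ⊤) →+* C :=
  (Scheme.ΓSpecIso (CommRingCat.of C)).hom.hom.comp
    (Scheme.Hom.appTop (show Spec (CommRingCat.of C) ⟶ G.left from y.left)).hom

theorem val_pt {A : Type u} [CommRing A] [Algebra R A] (e : G ≅ SpecOver R A) (x : A →ₐ[R] C)
    (h : Γ(G.left, ⊤)) : val (specMap R x ≫ e.inv) h = x (toA e h) := by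
  have h1 := val_specMap e x h
  have h2 : (Scheme.ΓSpecIso (CommRingCat.of C)).inv ≫ (Scheme.ΓSpecIso (CommRingCat.of C)).hom =
    𝟙 _ := Iso.inv_hom_id _
  have h3 := congrArg (fun z => z.hom (x (toA e h))) h2
  refine Eq.trans ?_ h3
  exact congrArg (Scheme.ΓSpecIso (CommRingCat.of C)).hom.hom h1

theorem val_congr {y y' : SpecOver R C ⟶ G} {h h' : Γ(G.left, ⊤)}
    (hh : y.left.appTop h = y'.left.appTop h') : val y h = val y' h' :=
  congrArg (Scheme.ΓSpecIso (CommRingCat.of C)).hom.hom hh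

theorem val_mul {y y₁ y₂ : SpecOver R C ⟶ G} {h h₁ h₂ : Γ(G.left, ⊤)}
    (hh : y.left.appTop h = y₁.left.appTop h₁ * y₂.left.appTop h₂) :
    val y h = val y₁ h₁ * val y₂ h₂ :=
  (congrArg (Scheme.ΓSpecIso (CommRingCat.of C)).hom.hom hh).trans (map_mul _ _ _)

end val

section grp

variable {A : Type u} [CommRing A] [HopfAlgebra R A] {G : Over (Spec (CommRingCat.of R))} [GrpObj G]
  (e : G ≅ SpecOver R A) [IsMonHom e.hom]

theorem pt_pm {C : Type u} [CommRing C] [Algebra R C] (x y : A →ₐ[R] C) :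
    specMap R (pm x y) ≫ e.inv = (specMap R x ≫ e.inv) * (specMap R y ≫ e.inv) := by
  rw [pm, specMap_mul, MonObj.mul_comp]

omit [GrpObj G] [IsMonHom e.hom] in
theorem pt_surj {C : Type u} [CommRing C] [Algebra R C] (y : SpecOver R C ⟶ G) :
    ∃ x : A →ₐ[R] C, y = specMap R x ≫ e.inv :=
  ⟨specPreimage R (y ≫ e.hom), by simp⟩

omit [GrpObj G] [IsMonHom e.hom] in
theorem pt_inj {C : Type u} [CommRing C] [Algebra R C] {x y : A →ₐ[R] C}
    (h : specMap R x ≫ e.inv = specMap R y ≫ e.inv) : x = y := by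
  apply specMap_injective R
  rwa [cancel_mono] at h

end grp

variable {G P U : Over (Spec (CommRingCat.of R))} [GrpObj G] [GrpObj P]

theorem exists_orb [IsAffine G.left] [IsAffine P.left] [IsAffine U.left] [Flat G.hom]
    [LocallyOfFiniteType U.hom] (p : P ⟶ G) [IsMonHom p] [Mono p] (u : U ⟶ G)
    (e₀ : 𝟙_ (Over (Spec (CommRingCat.of R))) ⟶ U) (he₀ : e₀ ≫ u = η[G])
    (hcell : IsOpenImmersion ((u ⊗ₘ p) ≫ μ[G]).left) (f : Γ(G.left, ⊤))
    (hrange : Set.range ((u ⊗ₘ p) ≫ μ[G]).left = (G.left.basicOpen f : Set G.left))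
    (hmul : ∀ (T : Over (Spec (CommRingCat.of R))) (g : T ⟶ G) (x : T ⟶ P),
      (g * (x ≫ p)).left.appTop f = g.left.appTop f * (x ≫ p).left.appTop f) :
    ∃ (n : ℕ) (o : G.left ⟶ CohB1.ProjSpaceOver n (Spec (CommRingCat.of R))),
      o ≫ CohB1.ProjSpaceOver.toBase n _ = G.hom ∧ IsOrb p o := by
  obtain ⟨A, _, _, e, he⟩ := exists_hopf R G
  obtain ⟨B, _, _, eP, heP⟩ := exists_hopf R P
  obtain ⟨D, _, _, ⟨eU⟩⟩ := exists_specOver U
  have : IsMonHom (eP.inv ≫ p ≫ e.hom) := inferInstance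
  obtain ⟨π, hπ⟩ := exists_bialgHom_of_isMonHom R (eP.inv ≫ p ≫ e.hom)
  obtain ⟨ψ, hψ⟩ : ∃ ψ : A →ₐ[R] D, specMap R ψ = eU.inv ≫ u ≫ e.hom :=
    ⟨specPreimage R (eU.inv ≫ u ≫ e.hom), by simp⟩
  have hπ' : ∀ {C : Type u} [CommRing C] [Algebra R C] (b : B →ₐ[R] C),
      specMap R (b.comp (π : A →ₐ[R] B)) ≫ e.inv = (specMap R b ≫ eP.inv) ≫ p := by
    intro C _ _ b
    rw [specMap_comp, hπ]
    simp
  have hψ' : ∀ {C : Type u} [CommRing C] [Algebra R C] (b : D →ₐ[R] C),
      specMap R (b.comp ψ) ≫ e.inv = (specMap R b ≫ eU.inv) ≫ u := by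
    intro C _ _ b
    rw [specMap_comp, hψ]
    simp
  have hflat : Module.Flat R A := by
    have h1 : Flat (SpecOver R A).hom := by
      rw [← Over.w e.inv]; infer_instance
    have h2 : Flat (Spec.map (CommRingCat.ofHom (algebraMap R A))) := h1
    rw [HasRingHomProperty.Spec_iff (P := @Flat)] at h2
    exact RingHom.flat_algebraMap_iff.mp h2
  have hft : Algebra.FiniteType R D := by
    have h1 : LocallyOfFiniteType (SpecOver R D).hom := by
      rw [← Over.w eU.inv]; infer_instance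
    have h2 : LocallyOfFiniteType (Spec.map (CommRingCat.ofHom (algebraMap R D))) := h1
    rw [HasRingHomProperty.Spec_iff (P := @LocallyOfFiniteType)] at h2
    exact RingHom.finiteType_algebraMap.mp h2
  -- the augmentation of `D`
  set εD : D →ₐ[R] R := specPreimage R (toUnit (SpecOver R R) ≫ e₀ ≫ eU.hom) with hεD
  have hε : εD.comp ψ = Bialgebra.counitAlgHom R A := by
    apply specMap_injective R
    rw [specMap_comp, hεD, specMap_specPreimage, hψ]
    simp only [Category.assoc, Iso.hom_inv_id_assoc, reassoc_of% he₀]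
    have h1 : specMap R (Bialgebra.counitAlgHom R A) = 1 := by
      rw [← specMap_one (k := R) (A := A) (R := R)]
      rfl
    rw [h1, IsMonHom.one_hom, Hom.one_def]
  -- the function `f`
  set f' : A := toA e f with hf'
  have hf : f' ∈ Eqv π (π f') := by
    rw [mem_eqv, rho_eq]
    have h1 := val_mul (hmul (SpecOver R (A ⊗[R] B))
      (specMap R (Algebra.TensorProduct.includeLeft : A →ₐ[R] A ⊗[R] B) ≫ e.inv)
      (specMap R (Algebra.TensorProduct.includeRight : B →ₐ[R] A ⊗[R] B) ≫ eP.inv))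
    rw [← hπ', ← pt_pm, val_pt, val_pt, val_pt] at h1
    rw [h1]
    change (f' ⊗ₜ[R] (1 : B)) * ((1 : A) ⊗ₜ[R] π f') = _
    rw [Algebra.TensorProduct.tmul_mul_tmul, _root_.one_mul, _root_.mul_one]
  -- the cell
  have := isIso_kap eU eP
  have hc : specMap R (cell π ψ) = kap eU eP ≫ (u ⊗ₘ p) ≫ μ[G] ≫ e.hom := by
    have h1 : specMap R (cell π ψ) ≫ e.inv = kap eU eP ≫ (u ⊗ₘ p) ≫ μ[G] := by
      rw [cell_eq, pt_pm, hπ', hψ', Hom.mul_def, kap, lift_map_assoc]
    rw [← reassoc_of% h1, Iso.inv_hom_id, Category.comp_id]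
  obtain ⟨k', hk', hcl⟩ : ∃ k' : Spec (CommRingCat.of (D ⊗[R] B)) ⟶ (U ⊗ P).left, IsIso k' ∧
      Spec.map (CommRingCat.ofHom (cell π ψ).toRingHom) = k' ≫ ((u ⊗ₘ p) ≫ μ[G]).left ≫ (eL e).hom :=
    ⟨(kap eU eP).left, inferInstanceAs (IsIso ((Over.forget _).map (kap eU eP))),
      congrArg (fun z => z.left) hc⟩
  have hopen : IsOpenImmersion (Spec.map (CommRingCat.ofHom (cell π ψ).toRingHom)) := by
    rw [hcl]; infer_instance
  have hrange' : Set.range (Spec.map (CommRingCat.ofHom (cell π ψ).toRingHom)) =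
      ((PrimeSpectrum.basicOpen f' : TopologicalSpace.Opens (PrimeSpectrum A)) :
        Set (PrimeSpectrum A)) := by
    have h1 : (Spec (CommRingCat.of A)).basicOpen ((eL e).inv.appTop f) =
        PrimeSpectrum.basicOpen f' := basicOpen_eq_of_affine' _
    have h2 : (eL e).inv ⁻¹ᵁ G.left.basicOpen f =
        (Spec (CommRingCat.of A)).basicOpen ((eL e).inv.appTop f) :=
      Scheme.preimage_basicOpen_top _ _
    rw [← h1, ← h2]
    ext x
    constructor
    · rintro ⟨y, rfl⟩
      change (eL e).inv (Spec.map (CommRingCat.ofHom (cell π ψ).toRingHom) y) ∈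
        (G.left.basicOpen f : Set G.left)
      rw [hcl, ← hrange]
      refine ⟨k' y, ?_⟩
      rw [← Scheme.Hom.comp_apply, ← Scheme.Hom.comp_apply]
      simp only [Category.assoc, Iso.hom_inv_id, Category.comp_id]
    · intro hx
      change (eL e).inv x ∈ (G.left.basicOpen f : Set G.left) at hx
      rw [← hrange] at hx
      obtain ⟨y, hy⟩ := hx
      refine ⟨(inv k') y, ?_⟩
      rw [hcl, ← Scheme.Hom.comp_apply, IsIso.inv_hom_id_assoc, Scheme.Hom.comp_apply, hy,
        ← Scheme.Hom.comp_apply, Iso.inv_hom_id]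
      rfl
  obtain ⟨hu, hinj, hsurj⟩ := away_of_openImm (cell π ψ).toRingHom f' hrange'
  obtain ⟨n, N, v, hv, heqv, hker⟩ := exists_vec εD hε hu hinj hsurj hf
  -- the functions on `G`
  have hv' : Ideal.span (Set.range fun k => ofA e (v k)) = ⊤ := by
    have h1 := congrArg (Ideal.map (ofA e)) hv
    rw [Ideal.map_span, Ideal.map_top, ← Set.range_comp] at h1
    exact h1
  refine ⟨n, projMap (fun k => ofA e (v k)) hv' G.hom, projMap_toBase _ _ _, fun T x y => ?_⟩
  rw [comp_projMap_eq_iff]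
  constructor
  · rintro ⟨-, c, hc'⟩
    have hlift : ∀ (C : Type u) [CommRing C] (c₀ : Spec (CommRingCat.of C) ⟶ Spec (CommRingCat.of R))
        (t : Groth.Agent.Sga3B.Parab.aff C c₀ ⟶ T), ∃ w : Groth.Agent.Sga3B.Parab.aff C c₀ ⟶ P,
          w ≫ p = t ≫ (x⁻¹ * y) := by
      intro C _ c₀ t
      obtain ⟨φ, rfl⟩ := exists_alg c₀
      let _ : Algebra R C := φ.toAlgebra
      change SpecOver R C ⟶ T at t
      obtain ⟨x', hx'⟩ := pt_surj e (t ≫ x)
      obtain ⟨y', hy'⟩ := pt_surj e (t ≫ y)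
      have h1 : ∀ k, y' (v k) = (Scheme.ΓSpecIso (CommRingCat.of C)).hom.hom
          ((show Spec (CommRingCat.of C) ⟶ T.left from t.left).appTop c) * x' (v k) := by
        intro k
        have h2 := congrArg (fun z => (Scheme.ΓSpecIso (CommRingCat.of C)).hom.hom
          ((show Spec (CommRingCat.of C) ⟶ T.left from t.left).appTop z)) (hc' k)
        have h3 : val (t ≫ y) (ofA e (v k)) = (Scheme.ΓSpecIso (CommRingCat.of C)).hom.hom
          ((show Spec (CommRingCat.of C) ⟶ T.left from t.left).appTop c) *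
            val (t ≫ x) (ofA e (v k)) := by
          refine Eq.trans h2 ?_
          rw [map_mul, map_mul]
          rfl
        rw [hx', hy', val_pt, val_pt, toA_ofA] at h3
        exact h3
      obtain ⟨b, hb⟩ := hker C x' y' _ (((c.isUnit).map
        (show Spec (CommRingCat.of C) ⟶ T.left from t.left).appTop.hom).map
        (Scheme.ΓSpecIso (CommRingCat.of C)).hom.hom) h1
      refine ⟨specMap R b ≫ eP.inv, ?_⟩
      have h2 : t ≫ y = (t ≫ x) * ((specMap R b ≫ eP.inv) ≫ p) := by
        rw [← hπ', hx', hy', hb, pt_pm]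
      rw [MonObj.comp_mul]
      change _ = (t ≫ x⁻¹) * (t ≫ y)
      rw [h2, ← _root_.mul_assoc, GrpObj.comp_inv, inv_mul_cancel, _root_.one_mul]
      rfl
    obtain ⟨z, hz⟩ := Groth.Agent.Sga3B.Parab.AffPts998.exists_lift_of_aff p (x⁻¹ * y) hlift
    exact ⟨z, by rw [hz, mul_inv_cancel_left]⟩
  · rintro ⟨z, rfl⟩
    refine ⟨by rw [Over.w, Over.w], ?_⟩
    -- the universal case
    have hκ := isIso_kap e eP
    have hκ1 : kap e eP ≫ fst G P =
        specMap R (Algebra.TensorProduct.includeLeft : A →ₐ[R] A ⊗[R] B) ≫ e.inv := lift_fst _ _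
    have hκ2 : kap e eP ≫ snd G P ≫ p =
        specMap R ((Algebra.TensorProduct.includeRight : B →ₐ[R] A ⊗[R] B).comp
          (π : A →ₐ[R] B)) ≫ e.inv := by
      rw [hπ', kap, lift_snd_assoc]
    have huniv : ∀ k, ((fst G P) * (snd G P ≫ p)).left.appTop (ofA e (v k)) =
        (snd G P ≫ p).left.appTop f ^ N * (fst G P).left.appTop (ofA e (v k)) := by
      intro k
      have h1 : val (kap e eP ≫ ((fst G P) * (snd G P ≫ p))) (ofA e (v k)) =
          val (kap e eP ≫ snd G P ≫ p) f ^ N * val (kap e eP ≫ fst G P) (ofA e (v k)) := by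
        rw [MonObj.comp_mul, hκ1, hκ2, ← pt_pm, val_pt, val_pt, val_pt, toA_ofA, ← rho_eq,
          mem_eqv.mp (heqv k)]
        change _ = ((1 : A) ⊗ₜ[R] π f') ^ N * (v k ⊗ₜ[R] (1 : B))
        rw [Algebra.TensorProduct.tmul_pow, Algebra.TensorProduct.tmul_mul_tmul, one_pow,
          _root_.one_mul, _root_.mul_one]
      have h2 : Function.Injective fun s : Γ((G ⊗ P).left, ⊤) =>
          (Scheme.ΓSpecIso (CommRingCat.of (A ⊗[R] B))).hom.hom
            ((show Spec (CommRingCat.of (A ⊗[R] B)) ⟶ (G ⊗ P).left from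
              (kap e eP).left).appTop.hom s) := by
        have key : ∀ (kk : Spec (CommRingCat.of (A ⊗[R] B)) ⟶ (G ⊗ P).left), IsIso kk →
            Function.Injective fun s : Γ((G ⊗ P).left, ⊤) =>
          (Scheme.ΓSpecIso (CommRingCat.of (A ⊗[R] B))).hom.hom (kk.appTop.hom s) := by
          intro kk hkk
          have : IsIso kk.appTop := inferInstanceAs (IsIso (kk.app ⊤))
          exact (ConcreteCategory.bijective_of_isIso
            (Scheme.ΓSpecIso (CommRingCat.of (A ⊗[R] B))).hom).1.comp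
            (ConcreteCategory.bijective_of_isIso kk.appTop).1
        exact key _ (inferInstanceAs (IsIso ((Over.forget _).map (kap e eP))))
      apply h2
      refine Eq.trans h1 ?_
      change _ = (Scheme.ΓSpecIso (CommRingCat.of (A ⊗[R] B))).hom.hom (_)
      rw [map_mul, map_pow, map_mul, map_pow]
      rfl
    have hunit : IsUnit (p.left.appTop f) := by
      have h1 : toA eP (p.left.appTop f) = π f' := by
        have h2 : val ((specMap R (AlgHom.id R B) ≫ eP.inv) ≫ p) f = π f' := by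
          rw [← hπ', val_pt]; rfl
        rw [← h2, specMap_id, Category.id_comp]
        rfl
      have h3 : IsUnit (toA eP (p.left.appTop f)) := h1 ▸ isUnit_chi εD hε hu
      have h4 := h3.map (ofA eP)
      rwa [ofA_toA] at h4
    refine ⟨(hunit.map z.left.appTop.hom).unit ^ N, fun k => ?_⟩
    have h1 := congrArg (lift x z).left.appTop (huniv k)
    have h2 : lift x z ≫ ((fst G P) * (snd G P ≫ p)) = x * (z ≫ p) := by
      rw [MonObj.comp_mul, lift_fst, lift_snd_assoc]
    rw [map_mul, map_pow] at h1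
    rw [← h2]
    refine Eq.trans ?_ (h1.trans ?_)
    · rw [Over.comp_left, Scheme.Hom.comp_appTop]; rfl
    · have h3 : (z ≫ p).left.appTop f = (lift x z).left.appTop ((snd G P ≫ p).left.appTop f) := by
        rw [← lift_snd_assoc x z p, Over.comp_left, Scheme.Hom.comp_appTop]; rfl
      have h4 : x.left.appTop (ofA e (v k)) =
          (lift x z).left.appTop ((fst G P).left.appTop (ofA e (v k))) := by
        conv_lhs => rw [← lift_fst x z, Over.comp_left, Scheme.Hom.comp_appTop]
        rfl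
      have h5 : (z ≫ p).left.appTop f = z.left.appTop (p.left.appTop f) := by
        rw [Over.comp_left, Scheme.Hom.comp_appTop]; rfl
      rw [← h3, ← h4, h5, Units.val_pow_eq_pow_val]
      rfl

end

end Groth.Agent.RedSub.H638.ParMap2
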