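import Mathlib.RingTheory.HopfAlgebra.Convolution
import Mathlib.RingTheory.Bialgebra.Convolution
import Mathlib.RingTheory.Localization.BaseChange
import Mathlib.RingTheory.Localization.Away.Basic
import Mathlib.RingTheory.Flat.Basic
import Mathlib.RingTheory.FiniteType
import Mathlib.Tactic

/-!
# Equivariant functions and the orbit map of a parabolic subgroup (algebra)

`A` a flat commutative Hopf algebra over `R`, `π : A → B` a subgroup `P`, `ψ : A → D` a subscheme `U` through the
identity, `f : A` with `f (g p) = f g * f p` such that `U × P → G` is an isomorphism onto `D(f)`.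
There are finitely many `v k : A` which are unimodular, satisfy `v k (g p) = f p ^ N * v k g`, and such that two points
`x`, `y` with proportional vectors `v x`, `v y` satisfy `x⁻¹ y ∈ P`.
-/

set_option autoImplicit false
universe u

open TensorProduct WithConv

namespace Groth.Agent.RedSub.H638.ParSec

noncomputable section

variable {R A B D : Type u} [CommRing R] [CommRing A] [HopfAlgebra R A] [CommRing B] [Bialgebra R B]
  [CommRing D] [Algebra R D]

section points

variable {C C₁ C₂ : Type u} [CommRing C] [Algebra R C] [CommRing C₁] [Algebra R C₁] [CommRing C₂]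
  [Algebra R C₂]

/-- product of points -/
def pm (x y : A →ₐ[R] C) : A →ₐ[R] C := (toConv x * toConv y).ofConv

theorem pm_assoc (x y z : A →ₐ[R] C) : pm (pm x y) z = pm x (pm y z) := by
  simp only [pm, toConv_ofConv, mul_assoc]

theorem comp_pm (θ : C →ₐ[R] C₁) (x y : A →ₐ[R] C) : θ.comp (pm x y) = pm (θ.comp x) (θ.comp y) :=
  AlgHom.comp_convMul_distrib θ (toConv x) (toConv y)

theorem pm_comp (x y : B →ₐ[R] C) (π : A →ₐc[R] B) :
    (toConv x * toConv y).ofConv.comp (π : A →ₐ[R] B) =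
      pm (x.comp (π : A →ₐ[R] B)) (y.comp (π : A →ₐ[R] B)) :=
  AlgHom.convMul_comp_bialgHom_distrib (toConv x) (toConv y) π

theorem map_comul (α : A →ₐ[R] C₁) (β : A →ₐ[R] C₂) :
    (Algebra.TensorProduct.map α β).comp (Bialgebra.comulAlgHom R A) =
      pm ((Algebra.TensorProduct.includeLeft : C₁ →ₐ[R] C₁ ⊗[R] C₂).comp α)
        ((Algebra.TensorProduct.includeRight : C₂ →ₐ[R] C₁ ⊗[R] C₂).comp β) := by
  rw [pm, AlgHom.convMul_def]
  rw [← AlgHom.comp_assoc]
  congr 1
  ext a <;> simp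

theorem pm_apply (x y : A →ₐ[R] C) (a : A) :
    pm x y a = Algebra.TensorProduct.lift x y (fun _ _ => .all ..) (Coalgebra.comul (R := R) a) :=
  AlgHom.convMul_apply (toConv x) (toConv y) a

theorem pm_apply_of_comul (x y : A →ₐ[R] C) {a : A} {ι : Type*} (s : Finset ι) (p q : ι → A)
    (h : Coalgebra.comul (R := R) a = ∑ k ∈ s, p k ⊗ₜ[R] q k) :
    pm x y a = ∑ k ∈ s, x (p k) * y (q k) := by
  rw [pm_apply, h, map_sum]
  simp

/-- the unit point -/
def po (A C : Type u) [CommRing A] [HopfAlgebra R A] [CommRing C] [Algebra R C] : A →ₐ[R] C :=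
  (Algebra.ofId R C).comp (Bialgebra.counitAlgHom R A)

theorem pm_po_left (x : A →ₐ[R] C) : pm (po A C) x = x := by
  have : (1 : WithConv (A →ₐ[R] C)) * toConv x = toConv x := one_mul _
  exact congrArg WithConv.ofConv this

theorem pm_po_right (x : A →ₐ[R] C) : pm x (po A C) = x := by
  have : toConv x * (1 : WithConv (A →ₐ[R] C)) = toConv x := mul_one _
  exact congrArg WithConv.ofConv this

/-- the inverse point -/
def pinv (x : A →ₐ[R] C) : A →ₐ[R] C := x.comp (HopfAlgebra.antipodeAlgHom R A)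

theorem comp_po (θ : C →ₐ[R] C₁) : θ.comp (po A C) = po A C₁ := by
  rw [po, po, ← AlgHom.comp_assoc]
  congr 1
  exact Subsingleton.elim _ _

theorem pinv_pm (x : A →ₐ[R] C) : pm (pinv x) x = po A C := by
  have h1 : pm (HopfAlgebra.antipodeAlgHom R A) (AlgHom.id R A) = po A A :=
    congrArg WithConv.ofConv (AlgHom.antipode_id_cancel (R := R) (A := A))
  have h2 := congrArg (fun z => x.comp z) h1
  simp only [comp_pm, comp_po, AlgHom.comp_id] at h2
  exact h2

theorem pm_pinv (x : A →ₐ[R] C) : pm x (pinv x) = po A C := by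
  have h1 : x = pinv (pinv x) := by
    calc x = pm (po A C) x := (pm_po_left x).symm
      _ = pm (pm (pinv (pinv x)) (pinv x)) x := by rw [pinv_pm (pinv x)]
      _ = pm (pinv (pinv x)) (pm (pinv x) x) := pm_assoc _ _ _
      _ = pinv (pinv x) := by rw [pinv_pm, pm_po_right]
  exact (congrArg (fun z => pm z (pinv x)) h1).trans (pinv_pm (pinv x))

end points

variable (π : A →ₐc[R] B) (ψ : A →ₐ[R] D)

/-- `g p` for the universal `g`, `p` -/
def rho : A →ₐ[R] A ⊗[R] B :=
  (Algebra.TensorProduct.map (AlgHom.id R A) (π : A →ₐ[R] B)).comp (Bialgebra.comulAlgHom R A)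

/-- `u p` for the universal `u`, `p` -/
def cell : A →ₐ[R] D ⊗[R] B :=
  (Algebra.TensorProduct.map ψ (π : A →ₐ[R] B)).comp (Bialgebra.comulAlgHom R A)

theorem rho_eq : rho π = pm (Algebra.TensorProduct.includeLeft : A →ₐ[R] A ⊗[R] B)
    ((Algebra.TensorProduct.includeRight : B →ₐ[R] A ⊗[R] B).comp (π : A →ₐ[R] B)) := by
  rw [rho, map_comul, AlgHom.comp_id]

theorem cell_eq : cell π ψ =
    pm ((Algebra.TensorProduct.includeLeft : D →ₐ[R] D ⊗[R] B).comp ψ)
      ((Algebra.TensorProduct.includeRight : B →ₐ[R] D ⊗[R] B).comp (π : A →ₐ[R] B)) := by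
  rw [cell, map_comul]

theorem map_rho {C : Type u} [CommRing C] [Algebra R C] (x : A →ₐ[R] C) :
    (Algebra.TensorProduct.map x (AlgHom.id R B)).comp (rho π) =
      pm ((Algebra.TensorProduct.includeLeft : C →ₐ[R] C ⊗[R] B).comp x)
        ((Algebra.TensorProduct.includeRight : B →ₐ[R] C ⊗[R] B).comp (π : A →ₐ[R] B)) := by
  rw [rho_eq, comp_pm, ← AlgHom.comp_assoc, Algebra.TensorProduct.map_comp_includeLeft,
    Algebra.TensorProduct.map_comp_includeRight, AlgHom.comp_id]

/-- points form of `rho` -/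
theorem lift_rho {C : Type u} [CommRing C] [Algebra R C] (x : A →ₐ[R] C) (b : B →ₐ[R] C) :
    (Algebra.TensorProduct.lift x b (fun _ _ => .all ..)).comp (rho π) =
      pm x (b.comp (π : A →ₐ[R] B)) := by
  rw [rho_eq, comp_pm, ← AlgHom.comp_assoc, Algebra.TensorProduct.lift_comp_includeLeft,
    Algebra.TensorProduct.lift_comp_includeRight']

theorem lift_cell {C : Type u} [CommRing C] [Algebra R C] (x : D →ₐ[R] C) (b : B →ₐ[R] C) :
    (Algebra.TensorProduct.lift x b (fun _ _ => .all ..)).comp (cell π ψ) =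
      pm (x.comp ψ) (b.comp (π : A →ₐ[R] B)) := by
  rw [cell_eq, comp_pm, ← AlgHom.comp_assoc, ← AlgHom.comp_assoc,
    Algebra.TensorProduct.lift_comp_includeLeft, Algebra.TensorProduct.lift_comp_includeRight']

/-- associativity `(u p) p' = u (p p')` -/
theorem map_cell_rho :
    (Algebra.TensorProduct.map (cell π ψ) (AlgHom.id R B)).comp (rho π) =
      ((Algebra.TensorProduct.assoc R R R D B B).symm : _ →ₐ[R] _).comp
        ((Algebra.TensorProduct.map (AlgHom.id R D) (Bialgebra.comulAlgHom R B)).comp (cell π ψ)) := by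
  have h1 : ((Algebra.TensorProduct.map (AlgHom.id R D) (Bialgebra.comulAlgHom R B)).comp
      ((Algebra.TensorProduct.includeRight : B →ₐ[R] D ⊗[R] B).comp (π : A →ₐ[R] B))) =
      (Algebra.TensorProduct.includeRight : B ⊗[R] B →ₐ[R] D ⊗[R] (B ⊗[R] B)).comp
        (pm ((Algebra.TensorProduct.includeLeft : B →ₐ[R] B ⊗[R] B).comp (π : A →ₐ[R] B))
          ((Algebra.TensorProduct.includeRight : B →ₐ[R] B ⊗[R] B).comp (π : A →ₐ[R] B))) := by
    have h2 : pm ((Algebra.TensorProduct.includeLeft : B →ₐ[R] B ⊗[R] B).comp (π : A →ₐ[R] B))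
          ((Algebra.TensorProduct.includeRight : B →ₐ[R] B ⊗[R] B).comp (π : A →ₐ[R] B)) =
          (Bialgebra.comulAlgHom R B).comp (π : A →ₐ[R] B) := by
      rw [← map_comul]
      exact AlgHom.ext fun a => CoalgHomClass.map_comp_comul_apply π a
    rw [h2, ← AlgHom.comp_assoc, ← AlgHom.comp_assoc, Algebra.TensorProduct.map_comp_includeRight]
  have h3 : (Algebra.TensorProduct.map (AlgHom.id R D) (Bialgebra.comulAlgHom R B)).comp
      ((Algebra.TensorProduct.includeLeft : D →ₐ[R] D ⊗[R] B).comp ψ) =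
      (Algebra.TensorProduct.includeLeft : D →ₐ[R] D ⊗[R] (B ⊗[R] B)).comp ψ := by
    rw [← AlgHom.comp_assoc, Algebra.TensorProduct.map_comp_includeLeft, AlgHom.comp_id]
  rw [map_rho, cell_eq, comp_pm, comp_pm, comp_pm, pm_assoc, h1, h3, comp_pm, comp_pm]
  rfl

/-- associativity `g (g' p) = (g g') p` -/
theorem map_id_rho :
    (Algebra.TensorProduct.map (AlgHom.id R A) (rho π)).comp (Bialgebra.comulAlgHom R A) =
      ((Algebra.TensorProduct.assoc R R R A A B) : _ →ₐ[R] _).comp
        ((Algebra.TensorProduct.map (Bialgebra.comulAlgHom R A) (AlgHom.id R B)).comp (rho π)) := by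
  have h0 : (Bialgebra.comulAlgHom R A) =
      pm (Algebra.TensorProduct.includeLeft : A →ₐ[R] A ⊗[R] A)
        (Algebra.TensorProduct.includeRight : A →ₐ[R] A ⊗[R] A) := by
    have := map_comul (AlgHom.id R A) (AlgHom.id R A)
    rw [Algebra.TensorProduct.map_id, AlgHom.id_comp, AlgHom.comp_id, AlgHom.comp_id] at this
    exact this
  rw [map_comul, map_rho, h0, comp_pm, comp_pm, comp_pm, rho_eq, comp_pm, pm_assoc]
  rfl

/-- functions with `a (g p) = χ p * a g` -/
def Eqv (χ : B) : Submodule R A :=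
  LinearMap.ker ((rho π).toLinearMap - (TensorProduct.mk R A B).flip χ)

variable {π ψ}

theorem mem_eqv {χ : B} {a : A} : a ∈ Eqv π χ ↔ rho π a = a ⊗ₜ[R] χ := by
  rw [Eqv, LinearMap.mem_ker, LinearMap.sub_apply, sub_eq_zero]
  rfl

theorem eqv_mul {χ χ' : B} {a a' : A} (h : a ∈ Eqv π χ) (h' : a' ∈ Eqv π χ') :
    a * a' ∈ Eqv π (χ * χ') := by
  rw [mem_eqv] at *
  rw [map_mul, h, h', Algebra.TensorProduct.tmul_mul_tmul]

theorem eqv_pow {χ : B} {a : A} (h : a ∈ Eqv π χ) (n : ℕ) : a ^ n ∈ Eqv π (χ ^ n) := by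
  rw [mem_eqv] at *
  rw [map_pow, h, Algebra.TensorProduct.tmul_pow]

/-- universal left translates of an equivariant function -/
theorem comul_mem_of_eqv [Module.Flat R A] {χ : B} {a : A} (h : a ∈ Eqv π χ) :
    ∃ (n : ℕ) (p q : Fin n → A), (∀ k, q k ∈ Eqv π χ) ∧
      Coalgebra.comul (R := R) a = ∑ k, p k ⊗ₜ[R] q k := by
  classical
  set r : A →ₗ[R] A ⊗[R] B := (rho π).toLinearMap - (TensorProduct.mk R A B).flip χ with hr
  have hex : Function.Exact (Eqv π χ).subtype r := by
    intro x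
    rw [← LinearMap.mem_ker]
    change x ∈ Eqv π χ ↔ _
    simp
  have hex' := Module.Flat.lTensor_exact A hex
  have h0 : (LinearMap.lTensor A r) (Coalgebra.comul (R := R) a) = 0 := by
    have h1 : (LinearMap.lTensor A r) (Coalgebra.comul (R := R) a) =
        (LinearMap.lTensor A (rho π).toLinearMap) (Coalgebra.comul (R := R) a) -
        (LinearMap.lTensor A ((TensorProduct.mk R A B).flip χ)) (Coalgebra.comul (R := R) a) := by
      rw [hr, LinearMap.lTensor_sub, LinearMap.sub_apply]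
    have h2 : (LinearMap.lTensor A (rho π).toLinearMap) (Coalgebra.comul (R := R) a) =
        ((Algebra.TensorProduct.map (AlgHom.id R A) (rho π)).comp (Bialgebra.comulAlgHom R A)) a :=
      rfl
    have h3 : (LinearMap.lTensor A ((TensorProduct.mk R A B).flip χ))
        (Coalgebra.comul (R := R) a) =
        Algebra.TensorProduct.assoc R R R A A B ((Coalgebra.comul (R := R) a) ⊗ₜ[R] χ) := by
      generalize (Coalgebra.comul (R := R) a) = z
      induction z with
      | zero => simp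
      | tmul x y => rfl
      | add x y hx hy => rw [map_add, hx, hy, TensorProduct.add_tmul, map_add]
    rw [h1, h2, h3, map_id_rho, AlgHom.comp_apply, AlgHom.comp_apply, mem_eqv.mp h, sub_eq_zero]
    rfl
  obtain ⟨z, hz⟩ := (hex' _).mp h0
  rw [← hz]
  clear hz h0
  induction z with
  | zero => exact ⟨0, Fin.elim0, Fin.elim0, fun k => k.elim0, by simp⟩
  | tmul x y => exact ⟨1, fun _ => x, fun _ => y, fun _ => y.2, by simp⟩
  | add z z' ih ih' =>
    obtain ⟨n, p, q, hq, e⟩ := ih
    obtain ⟨n', p', q', hq', e'⟩ := ih'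
    refine ⟨n + n', Fin.append p p', Fin.append q q', fun k => ?_, ?_⟩
    · refine Fin.addCases (fun i => ?_) (fun i => ?_) k
      · rw [Fin.append_left]; exact hq i
      · rw [Fin.append_right]; exact hq' i
    · rw [map_add, e, e', Fin.sum_univ_add]
      simp only [Fin.append_left, Fin.append_right]

section main

variable {f : A} (εD : D →ₐ[R] R) (hε : εD.comp ψ = Bialgebra.counitAlgHom R A)

include hε in
theorem comp_po_eq {C : Type u} [CommRing C] [Algebra R C] :
    ((Algebra.ofId R C).comp εD).comp ψ = po A C := by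
  rw [AlgHom.comp_assoc, hε]; rfl

include hε in
theorem isUnit_chi (hu : IsUnit (cell π ψ f)) : IsUnit (π f) := by
  have h1 := hu.map (Algebra.TensorProduct.lift ((Algebra.ofId R B).comp εD) (AlgHom.id R B)
    (fun _ _ => .all ..))
  have h2 := lift_cell π ψ ((Algebra.ofId R B).comp εD) (AlgHom.id R B)
  rw [comp_po_eq εD hε, pm_po_left, AlgHom.id_comp] at h2
  rw [← AlgHom.comp_apply, h2] at h1
  exact h1

include hε in
theorem counit_f (hf : f ∈ Eqv π (π f)) (hu : IsUnit (cell π ψ f)) :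
    Coalgebra.counit (R := R) f = 1 := by
  have h1 : IsUnit (Coalgebra.counit (R := R) f) := by
    have h2 := (isUnit_chi εD hε hu).map (Bialgebra.counitAlgHom R B)
    have h3 : Bialgebra.counitAlgHom R B (π f) = Coalgebra.counit (R := R) f :=
      CoalgHomClass.counit_comp_apply π f
    rwa [h3] at h2
  have h4 := congrArg (Algebra.TensorProduct.lift (Bialgebra.counitAlgHom R A)
    (Bialgebra.counitAlgHom R B) (fun _ _ => .all ..)) (mem_eqv.mp hf)
  rw [← AlgHom.comp_apply, lift_rho] at h4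
  have h5 : (Bialgebra.counitAlgHom R B).comp (π : A →ₐ[R] B) = po A R :=
    AlgHom.ext fun a => CoalgHomClass.counit_comp_apply π a
  rw [h5, pm_po_right, Algebra.TensorProduct.lift_tmul] at h4
  have h6 : Coalgebra.counit (R := R) f =
      Coalgebra.counit (R := R) f * Coalgebra.counit (R := R) f := by
    refine h4.trans ?_
    congr 1
    exact CoalgHomClass.counit_comp_apply π f
  exact (h1.mul_left_cancel (by rw [mul_one]; exact h6)).symm

variable (hu : IsUnit (cell π ψ f)) (hinj : ∀ a, cell π ψ a = 0 → ∃ n : ℕ, f ^ n * a = 0)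
  (hsurj : ∀ z, ∃ (n : ℕ) (a : A), cell π ψ a = cell π ψ f ^ n * z)

include hu hinj hsurj in
theorem isLocalization :
    @IsLocalization A _ (Submonoid.powers f) (D ⊗[R] B) _ (cell π ψ).toRingHom.toAlgebra := by
  let _ : Algebra A (D ⊗[R] B) := (cell π ψ).toRingHom.toAlgebra
  refine ⟨?_, ?_, ?_⟩
  · rintro ⟨_, n, rfl⟩
    change IsUnit (cell π ψ (f ^ n))
    rw [map_pow]
    exact hu.pow n
  · intro z
    obtain ⟨n, a, h⟩ := hsurj z
    refine ⟨(a, ⟨f ^ n, n, rfl⟩), ?_⟩
    change z * cell π ψ (f ^ n) = cell π ψ a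
    rw [h, map_pow, mul_comm]
  · intro x y h
    change cell π ψ x = cell π ψ y at h
    obtain ⟨n, hn⟩ := hinj (x - y) (by rw [map_sub, h, sub_self])
    exact ⟨⟨f ^ n, n, rfl⟩, by
      change f ^ n * x = f ^ n * y
      rw [← sub_eq_zero, ← mul_sub]; exact hn⟩

include hu hinj hsurj in
theorem exists_pow_mul_eq_zero (w : A ⊗[R] B)
    (hw : Algebra.TensorProduct.map (cell π ψ) (AlgHom.id R B) w = 0) :
    ∃ n : ℕ, (f ⊗ₜ[R] (1 : B)) ^ n * w = 0 := by
  let i1 : Algebra A (D ⊗[R] B) := (cell π ψ).toRingHom.toAlgebra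
  have : IsScalarTower R A (D ⊗[R] B) := IsScalarTower.of_algebraMap_eq fun r =>
    ((cell π ψ).commutes r).symm
  have := isLocalization hu hinj hsurj
  let i2 : Algebra (A ⊗[R] B) ((D ⊗[R] B) ⊗[R] B) :=
    (Algebra.TensorProduct.map (cell π ψ) (AlgHom.id R B)).toRingHom.toAlgebra
  have : IsScalarTower A (A ⊗[R] B) ((D ⊗[R] B) ⊗[R] B) := IsScalarTower.of_algebraMap_eq fun a => by
    change _ = Algebra.TensorProduct.map (cell π ψ) (AlgHom.id R B) (a ⊗ₜ 1)
    rw [Algebra.TensorProduct.map_tmul, map_one]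
    rfl
  have h := IsLocalization.tensorProduct_tensorProduct R B (Submonoid.powers f) (D ⊗[R] B)
    (RingHom.ext fun b => by
      change Algebra.TensorProduct.map (cell π ψ) (AlgHom.id R B) (1 ⊗ₜ b) = _
      rw [Algebra.TensorProduct.map_tmul, map_one]
      rfl)
  have h1 : algebraMap (A ⊗[R] B) ((D ⊗[R] B) ⊗[R] B) w =
      algebraMap (A ⊗[R] B) ((D ⊗[R] B) ⊗[R] B) 0 := by
    rw [map_zero]; exact hw
  obtain ⟨⟨_, c, hc, rfl⟩, hc'⟩ := h.exists_of_eq h1
  obtain ⟨n, rfl⟩ := hc
  refine ⟨n, ?_⟩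
  rw [mul_zero] at hc'
  rw [Algebra.TensorProduct.tmul_pow, one_pow]
  exact hc'

include hu hinj hsurj in
theorem exists_eqv (hf : f ∈ Eqv π (π f)) (φ : D) : ∃ (N : ℕ) (a : A),
    cell π ψ a = cell π ψ f ^ N * (φ ⊗ₜ[R] (1 : B)) ∧ a ∈ Eqv π (π f ^ N) := by
  obtain ⟨N, a, ha⟩ := hsurj (φ ⊗ₜ[R] (1 : B))
  have hcf : cell π ψ f = ψ f ⊗ₜ[R] π f := by
    have h1 : (cell π ψ) = (Algebra.TensorProduct.map ψ (AlgHom.id R B)).comp (rho π) := by
      rw [map_rho, cell_eq]
    rw [h1, AlgHom.comp_apply, mem_eqv.mp hf, Algebra.TensorProduct.map_tmul]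
    rfl
  have hχ : Bialgebra.comulAlgHom R B (π f) = π f ⊗ₜ[R] π f := by
    have h1 : (Bialgebra.comulAlgHom R B).comp (π : A →ₐ[R] B) =
        (Algebra.TensorProduct.map (π : A →ₐ[R] B) (AlgHom.id R B)).comp (rho π) := by
      rw [rho, ← AlgHom.comp_assoc, ← Algebra.TensorProduct.map_comp, AlgHom.comp_id,
        AlgHom.id_comp]
      exact (AlgHom.ext fun a => (CoalgHomClass.map_comp_comul_apply π a).symm)
    have h2 := DFunLike.congr_fun h1 f
    rw [AlgHom.comp_apply, AlgHom.comp_apply, mem_eqv.mp hf, Algebra.TensorProduct.map_tmul] at h2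
    exact h2
  set σ : D ⊗[R] B →ₐ[R] (D ⊗[R] B) ⊗[R] B :=
    ((Algebra.TensorProduct.assoc R R R D B B).symm : _ →ₐ[R] _).comp
      (Algebra.TensorProduct.map (AlgHom.id R D) (Bialgebra.comulAlgHom R B)) with hσ
  have hσ1 : (Algebra.TensorProduct.map (cell π ψ) (AlgHom.id R B)).comp (rho π) =
      σ.comp (cell π ψ) := by
    rw [map_cell_rho, hσ, AlgHom.comp_assoc]
  have hσ2 : σ (cell π ψ f) = cell π ψ f ⊗ₜ[R] π f := by
    rw [hcf, hσ, AlgHom.comp_apply, Algebra.TensorProduct.map_tmul, hχ]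
    rfl
  have hσ3 : σ (φ ⊗ₜ[R] (1 : B)) = (φ ⊗ₜ[R] (1 : B)) ⊗ₜ[R] (1 : B) := by
    rw [hσ, AlgHom.comp_apply, Algebra.TensorProduct.map_tmul, map_one]
    rfl
  have key : Algebra.TensorProduct.map (cell π ψ) (AlgHom.id R B)
      (rho π a - a ⊗ₜ[R] (π f ^ N)) = 0 := by
    rw [map_sub, ← AlgHom.comp_apply, hσ1, AlgHom.comp_apply, ha, map_mul, map_pow, hσ2, hσ3,
      Algebra.TensorProduct.map_tmul, ha, Algebra.TensorProduct.tmul_pow,
      Algebra.TensorProduct.tmul_mul_tmul, mul_one, AlgHom.id_apply, sub_self]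
  obtain ⟨n, hn⟩ := exists_pow_mul_eq_zero hu hinj hsurj _ key
  refine ⟨n + N, f ^ n * a, ?_, ?_⟩
  · rw [map_mul, map_pow, ha, pow_add, mul_assoc]
  · rw [mem_eqv, map_mul, map_pow, mem_eqv.mp hf]
    rw [mul_sub, sub_eq_zero] at hn
    have h1 : (f ⊗ₜ[R] π f) ^ n = (1 ⊗ₜ[R] (π f ^ n)) * (f ⊗ₜ[R] (1 : B)) ^ n := by
      rw [Algebra.TensorProduct.tmul_pow, Algebra.TensorProduct.tmul_pow,
        Algebra.TensorProduct.tmul_mul_tmul, one_mul, one_pow, mul_one]
    rw [h1, mul_assoc, hn, Algebra.TensorProduct.tmul_pow, Algebra.TensorProduct.tmul_mul_tmul,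
      Algebra.TensorProduct.tmul_mul_tmul, one_mul, one_pow, one_mul, pow_add]

include hε hu hinj hsurj in
/-- The orbit map: unimodular equivariant functions separating the cosets of `P`. -/
theorem exists_vec [Module.Flat R A] [Algebra.FiniteType R D] (hf : f ∈ Eqv π (π f)) :
    ∃ (n N : ℕ) (v : Fin (n + 1) → A), Ideal.span (Set.range v) = ⊤ ∧
      (∀ k, v k ∈ Eqv π (π f ^ N)) ∧
      ∀ (C : Type u) [CommRing C] [Algebra R C] (x y : A →ₐ[R] C) (c : C), IsUnit c →
        (∀ k, y (v k) = c * x (v k)) → ∃ b : B →ₐ[R] C, y = pm x (b.comp (π : A →ₐ[R] B)) := by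
  classical
  obtain ⟨s, hs⟩ := (Algebra.FiniteType.out : (⊤ : Subalgebra R D).FG)
  choose M a ha ha' using fun φ : D => exists_eqv hu hinj hsurj hf φ
  set N := s.sup M + 1 with hN
  have hle : ∀ φ ∈ s, M φ ≤ N := fun φ hφ => (Finset.le_sup hφ).trans (Nat.le_succ _)
  -- the functions `h i`
  set φ' : Option s → D := fun i => i.elim 1 Subtype.val with hφ'
  set h : Option s → A := fun i => i.elim (f ^ N) (fun φ => f ^ (N - M φ) * a φ) with hh
  have hcell : ∀ i, cell π ψ (h i) = cell π ψ f ^ N * (φ' i ⊗ₜ[R] (1 : B)) := by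
    rintro (_ | ⟨φ, hφ⟩)
    · change cell π ψ (f ^ N) = cell π ψ f ^ N * (1 : D ⊗[R] B)
      rw [map_pow, mul_one]
    · change cell π ψ (f ^ (N - M φ) * a φ) = cell π ψ f ^ N * (φ ⊗ₜ[R] (1 : B))
      rw [map_mul, map_pow, ha, ← mul_assoc, ← pow_add, Nat.sub_add_cancel (hle φ hφ)]
  have heqv : ∀ i, h i ∈ Eqv π (π f ^ N) := by
    rintro (_ | ⟨φ, hφ⟩)
    · exact eqv_pow hf N
    · have h1 := eqv_mul (eqv_pow hf (N - M φ)) (ha' φ)
      rwa [← pow_add, Nat.sub_add_cancel (hle φ hφ)] at h1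
  choose m p q hq hpq using fun i => comul_mem_of_eqv (heqv i)
  have hcf : Coalgebra.counit (R := R) f = 1 := counit_f εD hε hf hu
  have hcN : Coalgebra.counit (R := R) (f ^ N) = 1 := by
    change Bialgebra.counitAlgHom R A (f ^ N) = 1
    rw [map_pow]
    change (Coalgebra.counit (R := R) f) ^ N = 1
    rw [hcf, one_pow]
  set κ := Σ i : Option s, Fin (m i)
  set n := Fintype.card κ
  set e : κ ≃ Fin n := Fintype.equivFin κ
  set v : Fin (n + 1) → A := Fin.cons 0 fun k => q (e.symm k).1 (e.symm k).2 with hv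
  have hvq : ∀ i k, v (e ⟨i, k⟩).succ = q i k := by
    intro i k
    rw [hv, Fin.cons_succ, Equiv.symm_apply_apply]
  refine ⟨n, N, v, ?_, ?_, ?_⟩
  · -- unimodularity
    rw [Ideal.eq_top_iff_one]
    have h1 : pm (HopfAlgebra.antipodeAlgHom R A) (AlgHom.id R A) = po A A :=
      congrArg WithConv.ofConv (AlgHom.antipode_id_cancel (R := R) (A := A))
    have h2 := DFunLike.congr_fun h1 (h none)
    rw [pm_apply_of_comul _ _ Finset.univ _ _ (hpq none)] at h2
    have h3 : (po A A : A →ₐ[R] A) (h none) = 1 := by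
      change algebraMap R A (Coalgebra.counit (R := R) (f ^ N)) = 1
      rw [hcN, map_one]
    rw [h3] at h2
    rw [← h2]
    refine Ideal.sum_mem _ fun k _ => Ideal.mul_mem_left _ _ (Ideal.subset_span ?_)
    exact ⟨(e ⟨none, k⟩).succ, hvq none k⟩
  · intro k
    refine Fin.cases ?_ (fun k => ?_) k
    · rw [hv, Fin.cons_zero]; exact Submodule.zero_mem _
    · rw [hv, Fin.cons_succ]; exact hq _ _
  · intro C _ _ x y c hc hxy
    set δ : A →ₐ[R] C := pm (pinv x) y with hδ
    have hδh : ∀ i, δ (h i) = c * algebraMap R C (Coalgebra.counit (R := R) (h i)) := by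
      intro i
      have h1 : pm (pinv x) x (h i) = algebraMap R C (Coalgebra.counit (R := R) (h i)) := by
        rw [pinv_pm]; rfl
      rw [← h1, hδ, pm_apply_of_comul _ _ Finset.univ _ _ (hpq i),
        pm_apply_of_comul _ _ Finset.univ _ _ (hpq i), Finset.mul_sum]
      refine Finset.sum_congr rfl fun k _ => ?_
      have h2 := hxy (e ⟨i, k⟩).succ
      rw [hvq] at h2
      rw [h2]; ring
    have hδf : δ f ^ N = c := by
      have h1 := hδh none
      change δ (f ^ N) = c * algebraMap R C (Coalgebra.counit (R := R) (f ^ N)) at h1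
      rw [hcN, map_one, mul_one, map_pow] at h1
      exact h1
    have hδu : IsUnit (δ f) := (isUnit_pow_iff (by omega : N ≠ 0)).mp (hδf ▸ hc)
    -- the factorisation through the cell
    obtain ⟨δ', hδ'⟩ : ∃ δ' : D ⊗[R] B →ₐ[R] C, δ'.comp (cell π ψ) = δ := by
      let i1 : Algebra A (D ⊗[R] B) := (cell π ψ).toRingHom.toAlgebra
      have : IsScalarTower R A (D ⊗[R] B) := IsScalarTower.of_algebraMap_eq fun r =>
        ((cell π ψ).commutes r).symm
      have := isLocalization hu hinj hsurj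
      have h1 : ∀ y : Submonoid.powers f, IsUnit (δ y) := by
        rintro ⟨_, k, rfl⟩
        change IsUnit (δ (f ^ k))
        rw [map_pow]
        exact hδu.pow k
      have h2 : ∀ y : Submonoid.powers f, IsUnit ((δ : A →+* C) y) := h1
      have h3 : ∀ a, IsLocalization.lift (S := D ⊗[R] B) h2 (cell π ψ a) = δ a := fun a =>
        IsLocalization.lift_eq h2 a
      refine ⟨{ IsLocalization.lift (S := D ⊗[R] B) h2 with
        commutes' := fun r => ?_ }, AlgHom.ext h3⟩
      change IsLocalization.lift (S := D ⊗[R] B) h2 (algebraMap R (D ⊗[R] B) r) = _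
      rw [← (cell π ψ).commutes r, h3, δ.commutes]
    have hgen : ∀ i, δ' (φ' i ⊗ₜ[R] (1 : B)) = algebraMap R C (εD (φ' i)) := by
      intro i
      have h1 : δ (h i) = c * δ' (φ' i ⊗ₜ[R] (1 : B)) := by
        rw [← hδ', AlgHom.comp_apply, hcell, map_mul, map_pow, ← AlgHom.comp_apply, hδ', hδf]
      have h2 : Coalgebra.counit (R := R) (h i) = εD (φ' i) := by
        have h3 := congrArg (Algebra.TensorProduct.lift εD (Bialgebra.counitAlgHom R B)
          (fun _ _ => .all ..)) (hcell i)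
        have h4 : (Algebra.TensorProduct.lift εD (Bialgebra.counitAlgHom R B)
          (fun _ _ => .all ..)).comp (cell π ψ) = po A R := by
          have h5 : (Bialgebra.counitAlgHom R B).comp (π : A →ₐ[R] B) = po A R :=
            AlgHom.ext fun a => CoalgHomClass.counit_comp_apply π a
          rw [lift_cell, hε, h5, pm_po_right]
          rfl
        rw [map_mul, map_pow, ← AlgHom.comp_apply, ← AlgHom.comp_apply, h4,
          Algebra.TensorProduct.lift_tmul, map_one, mul_one] at h3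
        have h6 : (po A R : A →ₐ[R] R) f = 1 := by
          change algebraMap R R (Coalgebra.counit (R := R) f) = 1
          rw [hcf, map_one]
        rw [h6, one_pow, one_mul] at h3
        exact h3
      have h3 := hδh i
      rw [h1, h2] at h3
      exact hc.mul_left_cancel h3
    have hD : δ'.comp (Algebra.TensorProduct.includeLeft : D →ₐ[R] D ⊗[R] B) =
        (Algebra.ofId R C).comp εD := by
      refine AlgHom.ext_of_adjoin_eq_top hs ?_
      intro φ hφ
      exact hgen (some ⟨φ, hφ⟩)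
    refine ⟨δ'.comp (Algebra.TensorProduct.includeRight : B →ₐ[R] D ⊗[R] B), ?_⟩
    have h1 : δ = (δ'.comp (Algebra.TensorProduct.includeRight : B →ₐ[R] D ⊗[R] B)).comp
        (π : A →ₐ[R] B) := by
      rw [← hδ', cell_eq, comp_pm, ← AlgHom.comp_assoc, hD, comp_po_eq εD hε, pm_po_left,
        AlgHom.comp_assoc]
    rw [← h1, hδ, ← pm_assoc, pm_pinv, pm_po_left]

end main

/-- values at `g p` -/
theorem eqv_apply {χ : B} {a : A} (h : a ∈ Eqv π χ) {C : Type u} [CommRing C] [Algebra R C]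
    (x : A →ₐ[R] C) (b : B →ₐ[R] C) : pm x (b.comp (π : A →ₐ[R] B)) a = x a * b χ := by
  rw [← lift_rho, AlgHom.comp_apply, mem_eqv.mp h, Algebra.TensorProduct.lift_tmul]

end

end Groth.Agent.RedSub.H638.ParSec
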