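import Groth.Agent.Sga3B.PinModelOf

/-!
# Pinned models with control of all root homomorphisms

`exists_pinCell_full`: the pinned cell of a good datum, all its root homomorphisms being those of the
datum up to units (equal for positive roots).
`exists_pinModel_full`: for a pinned group `D` and `s : Spec R ⟶ S`, a `PinModel` whose root
homomorphisms are those of `D` up to units, for all roots.
-/

set_option autoImplicit false
universe u

open CategoryTheory MonoidalCategory CartesianMonoidalCategory MonObj GrpObj AlgebraicGeometry
open TensorProduct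

namespace Groth.Agent.RedSub.H638.PinFull

open Groth.Agent.Sga3B Groth.Agent.Sga3B.Cell Groth.Agent.Sga3B.Cell.Datum
open Groth.Agent.Sga3B.PinMod Groth.Agent.Sga3B.PinFinal Groth.Agent.Sga3B.DSPts
open Groth.Agent.Sga3B.GaPts Groth.Agent.Sga3B.PinBuild Groth.Agent.Sga3B.PinModelOf

section

variable {R A : Type u} [CommRing R] [CommRing A] [Algebra R A] [PtGrp R A] {D : Datum R A}

/-- **Pinned cell data** from a good datum with reflection points, with control of all root
homomorphisms. -/
theorem exists_pinCell_full [Algebra.Smooth R A] (hdom : ∀ (K : Type u) [Field K] [Algebra R K],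
      IsDomain (K ⊗[R] A)) (hG : D.Good)
    (P : RootPairing D.idx ℤ D.M (Module.Dual ℤ D.M)) (hP : ∀ a, P.root a = D.root a)
    (hpe : P.toLinearMap = Module.Dual.eval ℤ D.M) (b : P.Base)
    (hn : ∀ a ∈ b.support, ∃ n : Pt R A R, ∀ {B : Type u} [CommRing B] [Algebra R B]
      (t : TPt D.M B), bp B n * D.i B t * (bp B n)⁻¹ =
        D.i B (t * (TPt.cow (P.coroot a) (t (Multiplicative.ofAdd (D.root a))))⁻¹)) :
    ∃ (E : PinCell P b R A) (ε : D.idx → Rˣ), (∀ a, b.IsPos a → ε a = 1) ∧
      (∀ (B : Type u) [CommRing B] [Algebra R B] (t : TPt D.M B), E.i B t = D.i B t) ∧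
      ∀ (a : D.idx) (B : Type u) [CommRing B] [Algebra R B] (x : B),
        E.uu a B x = D.uu a B (algebraMap R B (ε a) * x) := by
  classical
  have hred : P.IsReduced := PinComb.isReduced b
  have hfp : Algebra.FinitePresentation R A := inferInstance
  have hft : Algebra.FiniteType R A := inferInstance
  obtain ⟨hinj, I, hI, hmem⟩ := cell_props hG P hP b
  have hneg : ∀ a, D.root (P.reflectionPerm a a) = - D.root a := fun a => by
    rw [← hP, ← hP]; simp
  have hpos : ∀ a ∈ b.support, b.IsPos a := fun a ha => RootPairing.Base.isPos_of_mem_support ha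
  have hnpos : ∀ a ∈ b.support, ¬ b.IsPos (P.reflectionPerm a a) := fun a ha =>
    (RootPairing.Base.IsPos.neg_iff_not b a).not.mpr (not_not.mpr (hpos a ha))
  -- rank one relations
  have h1 : ∀ a ∈ b.support, ∃ c : Rˣ, ∀ {B : Type u} [CommRing B] [Algebra R B] (x y : B)
      (v : Bˣ), (v : B) = 1 + x * y →
      D.uu a B x * D.uu (P.reflectionPerm a a) B (algebraMap R B c * y) =
      D.uu (P.reflectionPerm a a) B (algebraMap R B c * ((v⁻¹ : Bˣ) * y)) *
        D.i B (TPt.cow (P.coroot a) v) * D.uu a B ((v⁻¹ : Bˣ) * x) := by
    intro a ha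
    obtain ⟨n, hn⟩ := hn a ha
    have H : RankOneHyp D a (P.reflectionPerm a a) (P.coroot a) (negList b) (posList b) I n :=
      { good := hG
        ft := hft
        dom := hdom
        neg := hneg a
        two := by
          have := P.root_coroot_two a
          rw [hpe] at this
          rw [← hP]
          exact this
        red := by
          intro c hc
          by_cases hac : a = c
          · exact Or.inl hac.symm
          · right
            rw [← hP, ← hP] at hc
            have hli : ¬ LinearIndependent ℤ ![P.root a, P.root c] := by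
              intro hli
              rw [LinearIndependent.pair_iff] at hli
              have := (hli (P.coroot a (P.root c)) (-2) (by rw [← hc]; module)).2
              omega
            have h2 := RootPairing.IsReduced.eq_or_eq_neg (P := P) a c hli
            rcases h2 with h2 | h2
            · exact absurd (P.root.injective h2) hac
            · apply P.root.injective
              rw [P.root_reflectionPerm, P.reflection_apply_self, h2, neg_neg]
        nodup := allList_nodup b
        compl := mem_allList b
        mem_neg := (mem_negList b).mpr (hnpos a ha)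
        mem_pos := (mem_posList b).mpr (hpos a ha)
        inj := hinj
        mem_iff := hmem
        acts := acts_rf hn }
    exact H.rank_one_norm
  choose! c hc using h1
  -- rescaling
  let ε : D.idx → Rˣ := fun a =>
    if P.reflectionPerm a a ∈ b.support then c (P.reflectionPerm a a) else 1
  have hinvol : ∀ a, P.reflectionPerm (P.reflectionPerm a a) (P.reflectionPerm a a) = a := by
    intro a
    apply P.root.injective
    rw [hP, hneg, hneg, neg_neg, hP]
  have hεpos : ∀ a, b.IsPos a → ε a = 1 := by
    intro a ha
    have : P.reflectionPerm a a ∉ b.support := fun h => by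
      have h2 := hpos _ h
      exact (RootPairing.Base.IsPos.neg_iff_not b a).mp h2 ha
    simp [ε, this]
  have hε1 : ∀ a ∈ b.support, ε a = 1 := fun a ha => hεpos a (hpos a ha)
  have hε2 : ∀ a ∈ b.support, ε (P.reflectionPerm a a) = c a := by
    intro a ha
    simp only [ε]
    rw [hinvol, if_pos ha]
  let D₁ := D.rescale ε
  have hG₁ : D₁.Good := Good.rescale D ε hG
  have hP₁ : ∀ a, P.root a = D₁.root a := hP
  obtain ⟨hinj₁, I₁, hI₁, hmem₁⟩ := cell_props (D := D₁) hG₁ P hP₁ b
  have hrank : ∀ a ∈ b.support, ∀ {B : Type u} [CommRing B] [Algebra R B] (x y : B) (v : Bˣ),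
    (v : B) = 1 + x * y → D₁.uu a B x * D₁.uu (P.reflectionPerm a a) B y =
      D₁.uu (P.reflectionPerm a a) B ((v⁻¹ : Bˣ) * y) * D₁.i B (TPt.cow (P.coroot a) v) *
        D₁.uu a B ((v⁻¹ : Bˣ) * x) := by
    intro a ha B _ _ x y v hv
    have h2 := hc a ha x y v hv
    change D.uu a B (algebraMap R B (ε a) * x) *
      D.uu (P.reflectionPerm a a) B (algebraMap R B (ε (P.reflectionPerm a a)) * y) =
      D.uu (P.reflectionPerm a a) B (algebraMap R B (ε (P.reflectionPerm a a)) *
        ((v⁻¹ : Bˣ) * y)) * D.i B (TPt.cow (P.coroot a) v) *
        D.uu a B (algebraMap R B (ε a) * ((v⁻¹ : Bˣ) * x))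
    rw [hε1 a ha, hε2 a ha, Units.val_one, map_one, _root_.one_mul, _root_.one_mul]
    exact h2
  exact ⟨{ pairing_eq := hpe
           i := D.i
           i_nat := D.i_nat
           i_inj := D.i_inj
           uu := D₁.uu
           uu_add := D₁.uu_add
           uu_nat := D₁.uu_nat
           uu_surj := D₁.uu_surj
           rel := fun a B _ _ t x => by
             rw [hP]
             exact D₁.rel a t x
           rank1 := hrank
           comm := fun a ha c hc hac B _ _ x y => pin_comm (D := D₁) P hP₁ b hG₁ ha hc hac x y
           conj := fun a ha c => pin_conj (D := D₁) P hP₁ b hG₁ hpe (hrank a ha) c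
           cell_inj := fun x x' t t' h => hinj₁ h
           cellIdeal := I₁
           cellIdeal_fg := hI₁
           mem_cell_iff := fun g => hmem₁ g
           pos_mul := fun x y => pin_pos_mul (D := D₁) P hP₁ b hG₁ x y
           neg_mul := fun x y => pin_neg_mul (D := D₁) P hP₁ b hG₁ x y
           fp := hfp
           smooth := inferInstance
           domain := hdom }, ε, hεpos, fun B _ _ t => rfl, fun a B _ _ x => rfl⟩

end

variable {S : Scheme.{u}} {G : Over S} [GrpObj G] {R : Type u} [CommRing R]
  {s : Spec (CommRingCat.of R) ⟶ S}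

/-- The pinned model from a chart, with control of all root homomorphisms. -/
theorem exists_pinModel_full_of_chart (D : Red.Pinning G) (c : Chart G s) :
    ∃ (m : PinModel D.P D.base G (jOf D.toSplitRed) D.u s) (ε : D.idx → Rˣ),
      (∀ a, D.base.IsPos a → ε a = 1) ∧
      ∀ (a : D.idx) (B : Type u) [CommRing B] [Algebra R B] (x : B),
        m.pts B (m.E.uu a B x) =
          gaPt (tB s B) (fnOf s (algebraMap R B (ε a) * x)) ≫ D.u a := by
  have : Smooth G.hom := D.reductive.2.1
  have : Algebra.Smooth R c.A := ChartFib.smooth_of_isPullback c.isPullback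
  obtain ⟨E, ε, hε, hi, hu⟩ := exists_pinCell_full (D := c.datum D.toSplitRed)
    (fun K _ _ => ChartFib.isDomain D.reductive c.isPullback K) (good D.toSplitRed c) D.P
    (fun a => rfl) D.pairing_eq D.base (fun a _ => by
      obtain ⟨n, hn⟩ := exists_acts D.toSplitRed c a
      exact ⟨n, fun t => conj_of_acts (D := c.datum D.toSplitRed) D.P (fun a => rfl)
        D.pairing_eq hn t⟩)
  refine ⟨{ A := c.A
            E := E
            pts := c.pts
            pts_nat := c.pts_nat
            pts_i := fun B _ _ t =>
              (congrArg (c.pts B) (hi B t)).trans (c.pts_i D.toSplitRed t)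
            pts_uu := fun a ha B _ _ x => by
              refine (congrArg (c.pts B) (hu a B x)).trans ?_
              rw [hε a (RootPairing.Base.isPos_of_mem_support ha), Units.val_one, map_one, _root_.one_mul]
              exact c.pts_uu D.toSplitRed a x }, ε, hε, fun a B _ _ x => ?_⟩
  exact (congrArg (c.pts B) (hu a B x)).trans (c.pts_uu D.toSplitRed a _)

/-- **Pinned models with control of all root homomorphisms** exist over every
`s : Spec R ⟶ S`. -/
theorem exists_pinModel_full (D : Red.Pinning G) (R : Type u) [CommRing R]
    (s : Spec (CommRingCat.of R) ⟶ S) :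
    ∃ (m : PinModel D.P D.base G (jOf D.toSplitRed) D.u s) (ε : D.idx → Rˣ),
      (∀ a, D.base.IsPos a → ε a = 1) ∧
      ∀ (a : D.idx) (B : Type u) [CommRing B] [Algebra R B] (x : B),
        m.pts B (m.E.uu a B x) =
          gaPt (tB s B) (fnOf s (algebraMap R B (ε a) * x)) ≫ D.u a := by
  have : IsAffineHom G.hom := D.reductive.1
  obtain ⟨c⟩ := exists_chart G s
  exact exists_pinModel_full_of_chart D c

end Groth.Agent.RedSub.H638.PinFull
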