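import Groth.Agent.RedSub.H638.WeylBase
import Groth.Agent.Sga3B.PinCover

/-!
# Bruhat decomposition and covering by Weyl translates of the big cell, on points

For `E : PinCell P b R A`:
* `bruhat`: over an algebraically closed field `K`, every point is in `B⁺ n_w B⁺` for a word `w` in the
  simple roots (`bruhat_of_mem_gen`: over any field, for points generated by the torus and the
  simple root groups and their opposites);
* `conj_Up_sub`: `n_w⁻¹ U⁺ n_w ⊆ U⁻ B⁺` over any ring;
* `exists_translate`: over an algebraically closed field every point is `n_w * cell`;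
* `exists_translate_local`: the same over a local ring;
* `gen_eq_top_local`: over a local ring the points are generated by the torus and the simple root
  groups and their opposites.
-/

set_option autoImplicit false
set_option linter.unusedSectionVars false
universe u

namespace Groth.Agent.RedSub.H638.WeylCover

open Groth.Agent.Sga3B Groth.Agent.Sga3B.Cell Groth.Agent.Sga3B.Word
open Groth.Agent.RedSub.H638.WeylBase

variable {idx M : Type} [Fintype idx] [AddCommGroup M] [Module.Free ℤ M]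
    [Module.Finite ℤ M] {P : RootPairing idx ℤ M (Module.Dual ℤ M)} {b : P.Base}
    {R A : Type u} [CommRing R] [CommRing A] [Algebra R A] [PtGrp R A] (E : PinCell P b R A)

/-! ### combinatorics of words -/

omit [Fintype idx] [Module.Free ℤ M] [Module.Finite ℤ M] in
lemma root_neg (a : idx) : P.root (P.reflectionPerm a a) = - P.root a := by
  rw [RootPairing.root_reflectionPerm, RootPairing.reflection_apply_self]

omit [Fintype idx] [Module.Free ℤ M] [Module.Finite ℤ M] in
lemma neg_neg_perm (a : idx) :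
    P.reflectionPerm (P.reflectionPerm a a) (P.reflectionPerm a a) = a := by
  apply P.root.injective
  rw [root_neg, root_neg, neg_neg]

lemma isPos_neg_iff {a : idx} : b.IsPos (P.reflectionPerm a a) ↔ ¬ b.IsPos a :=
  RootPairing.Base.IsPos.neg_iff_not b a

include b in
/-- simple reflections permute the positive roots other than the simple root itself -/
lemma isPos_refl {a c : idx} (ha : a ∈ b.support) (hc : b.IsPos c) (hac : c ≠ a) :
    b.IsPos (P.reflectionPerm a c) := by
  have : P.IsReduced := PinComb.isReduced b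
  exact hc.reflectionPerm ha hac

omit [Fintype idx] [Module.Free ℤ M] [Module.Finite ℤ M] in
lemma refl_neg (a c : idx) : P.reflectionPerm a (P.reflectionPerm c c) =
    P.reflectionPerm (P.reflectionPerm a c) (P.reflectionPerm a c) := by
  apply P.root.injective
  rw [root_neg, RootPairing.root_reflectionPerm, root_neg, RootPairing.root_reflectionPerm, map_neg]

omit [Fintype idx] [Module.Free ℤ M] [Module.Finite ℤ M] in
lemma wp_neg (l : List idx) (c : idx) : wp P l (P.reflectionPerm c c) =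
    P.reflectionPerm (wp P l c) (wp P l c) := by
  induction l with
  | nil => rfl
  | cons a l ih => rw [wp_cons, Equiv.Perm.mul_apply, ih, refl_neg, Equiv.Perm.mul_apply]

omit [Fintype idx] [Module.Free ℤ M] [Module.Finite ℤ M] in
lemma wp_symm_neg (l : List idx) (c : idx) : (wp P l).symm (P.reflectionPerm c c) =
    P.reflectionPerm ((wp P l).symm c) ((wp P l).symm c) := by
  rw [Equiv.symm_apply_eq, wp_neg, Equiv.apply_symm_apply]

omit [Fintype idx] [Module.Free ℤ M] [Module.Finite ℤ M] in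
lemma refl_refl (a c : idx) : P.reflectionPerm a (P.reflectionPerm a c) = c := by
  apply P.root.injective
  simp

omit [Fintype idx] [Module.Free ℤ M] [Module.Finite ℤ M] in
lemma refl_symm (a c : idx) : (P.reflectionPerm a).symm c = P.reflectionPerm a c := by
  rw [Equiv.symm_apply_eq, refl_refl]

omit [Fintype idx] [Module.Free ℤ M] [Module.Finite ℤ M] in
lemma wp_cons_symm (a : idx) (l : List idx) (c : idx) :
    (wp P (a :: l)).symm c = (wp P l).symm (P.reflectionPerm a c) := by
  rw [wp_cons, Equiv.symm_apply_eq, Equiv.Perm.mul_apply, Equiv.apply_symm_apply, refl_refl]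

/-- the positive roots made negative by the inverse of a word -/
noncomputable def inver (b : P.Base) (l : List idx) : Finset idx := by
  classical exact Finset.univ.filter (fun c => b.IsPos c ∧ ¬ b.IsPos ((wp P l).symm c))

lemma mem_inver {l : List idx} {c : idx} :
    c ∈ inver b l ↔ b.IsPos c ∧ ¬ b.IsPos ((wp P l).symm c) := by
  classical
  simp [inver]

lemma card_inver_lt {l : List idx} {a : idx} (ha : a ∈ b.support)
    (h : ¬ b.IsPos ((wp P l).symm a)) : (inver b (a :: l)).card < (inver b l).card := by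
  classical
  have hpa : b.IsPos a := RootPairing.Base.isPos_of_mem_support ha
  have h1 : (inver b (a :: l)).card ≤ ((inver b l).erase a).card := by
    apply Finset.card_le_card_of_injOn (P.reflectionPerm a)
    · intro c hc
      rw [Finset.mem_coe, mem_inver, wp_cons_symm] at hc
      rw [Finset.mem_coe, Finset.mem_erase, mem_inver]
      have hca : c ≠ a := by
        rintro rfl
        apply hc.2
        rw [wp_symm_neg, isPos_neg_iff]
        exact h
      refine ⟨?_, isPos_refl ha hc.1 hca, hc.2⟩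
      intro h2
      have h3 : c = P.reflectionPerm a a := by
        have := refl_refl (P := P) a c
        rw [h2] at this
        exact this.symm
      rw [h3] at hc
      exact (isPos_neg_iff.mp hc.1) hpa
    · exact (P.reflectionPerm a).injective.injOn
  refine h1.trans_lt (Finset.card_erase_lt_of_mem ?_)
  rw [mem_inver]
  exact ⟨hpa, h⟩

/-- if no simple root is made negative then no positive root is -/
lemma isPos_symm_of_simple {l : List idx} (h : ∀ a ∈ b.support, b.IsPos ((wp P l).symm a))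
    {c : idx} (hc : b.IsPos c) : b.IsPos ((wp P l).symm c) := by
  have hroot : ∀ (l : List idx), ∃ w : M →ₗ[ℤ] M, ∀ c, P.root ((wp P l).symm c) = w (P.root c) := by
    intro l
    induction l with
    | nil => exact ⟨LinearMap.id, fun c => rfl⟩
    | cons a l ih =>
      obtain ⟨w, hw⟩ := ih
      refine ⟨w.comp (P.reflection a).toLinearMap, fun c => ?_⟩
      rw [wp_cons_symm, hw, P.root_reflectionPerm]
      rfl
  obtain ⟨w, hw⟩ := hroot l
  obtain ⟨lam, n, hn, hlam⟩ := PinComb.exists_height_functional b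
  obtain ⟨f, hf0, hf1, hf2⟩ := b.exists_root_eq_sum_int c
  have hfpos : 0 < f := by
    refine hf1.resolve_right fun h => ?_
    rw [RootPairing.Base.isPos_iff, RootPairing.Base.height_eq_sum hf2] at hc
    exact absurd hc (not_lt.mpr (Finset.sum_nonpos fun j _ => h.le j))
  have h1 : lam (P.root ((wp P l).symm c)) = ∑ j ∈ b.support, f j * lam (P.root ((wp P l).symm j)) := by
    rw [hw, hf2, map_sum, map_sum]
    refine Finset.sum_congr rfl fun j _ => ?_
    rw [map_zsmul, map_zsmul, ← hw, smul_eq_mul]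
  rw [RootPairing.Base.isPos_iff', ← mul_nonneg_iff_of_pos_left hn, ← hlam, h1]
  apply Finset.sum_nonneg
  intro j hj
  refine mul_nonneg (hfpos.le j) ?_
  rw [hlam]
  exact mul_nonneg hn.le ((RootPairing.Base.isPos_iff _).mp (h j hj)).le

/-! ### splitting off a simple root group -/

section split

variable {B : Type u} [CommRing B] [Algebra R B]

lemma conj_nn_mem_Up {a : idx} (ha : a ∈ b.support) {z : idx → B} (hz : z a = 0) :
    E.nn a B * posP E z * (E.nn a B)⁻¹ ∈ Up E B := by
  have h : ∀ L : List idx, (∀ c ∈ L, b.IsPos c) →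
      E.nn a B * (L.map (fun c => E.uu c B (z c))).prod * (E.nn a B)⁻¹ ∈ Up E B := by
    intro L hL
    induction L with
    | nil => simp [one_mem]
    | cons c L ih =>
      rw [List.map_cons, List.prod_cons]
      have h1 : E.nn a B * (E.uu c B (z c) * (L.map (fun c => E.uu c B (z c))).prod) *
          (E.nn a B)⁻¹ = (E.nn a B * E.uu c B (z c) * (E.nn a B)⁻¹) *
          (E.nn a B * (L.map (fun c => E.uu c B (z c))).prod * (E.nn a B)⁻¹) := by group
      rw [h1]
      refine mul_mem ?_ (ih fun d hd => hL d (List.mem_cons_of_mem _ hd))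
      by_cases hca : c = a
      · rw [hca, hz, E.uu_zero]
        simp [one_mem]
      · obtain ⟨r, hr⟩ := E.nn_conj ha c
        rw [hr]
        exact uu_mem_Up E (isPos_refl ha (hL c List.mem_cons_self) hca) _
  exact h (posList b) (fun c hc => (mem_posList b).mp hc)

/-- `u = v u_a(x)` with `n_a v n_a⁻¹ ∈ U⁺` -/
lemma exists_split_right {a : idx} (ha : a ∈ b.support) {u : Pt R A B} (hu : u ∈ Up E B) :
    ∃ (x : B) (v : Pt R A B), v ∈ Up E B ∧ E.nn a B * v * (E.nn a B)⁻¹ ∈ Up E B ∧
      u = v * E.uu a B x := by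
  classical
  obtain ⟨z, rfl⟩ := hu
  obtain ⟨z', h1, h2⟩ := exists_posP_mul E z (Pi.single a (-z a))
  rw [posP_single E (RootPairing.Base.isPos_of_mem_support ha)] at h1
  refine ⟨z a, posP E z', posP_mem_Up E z', conj_nn_mem_Up E ha ?_, ?_⟩
  · rw [h2 a ha, Pi.single_eq_same, add_neg_cancel]
  · rw [← h1, mul_assoc, ← E.uu_add, neg_add_cancel, E.uu_zero, mul_one]

/-- `u = u_a(x) v` with `n_a v n_a⁻¹ ∈ U⁺` -/
lemma exists_split_left {a : idx} (ha : a ∈ b.support) {u : Pt R A B} (hu : u ∈ Up E B) :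
    ∃ (x : B) (v : Pt R A B), v ∈ Up E B ∧ E.nn a B * v * (E.nn a B)⁻¹ ∈ Up E B ∧
      u = E.uu a B x * v := by
  classical
  obtain ⟨z, rfl⟩ := hu
  obtain ⟨z', h1, h2⟩ := exists_posP_mul E (Pi.single a (-z a)) z
  rw [posP_single E (RootPairing.Base.isPos_of_mem_support ha)] at h1
  refine ⟨z a, posP E z', posP_mem_Up E z', conj_nn_mem_Up E ha ?_, ?_⟩
  · rw [h2 a ha, Pi.single_eq_same, neg_add_cancel]
  · rw [← h1, ← mul_assoc, ← E.uu_add, add_neg_cancel, E.uu_zero, one_mul]

/-- `u_{-a}(y) = u_a(-y⁻¹) ... n_a ...` for a unit `y` -/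
lemma uu_neg_eq {a : idx} (ha : a ∈ b.support) (v : Bˣ) :
    E.uu (P.reflectionPerm a a) B (v : B) =
      E.uu a B ((v⁻¹ : Bˣ) : B) * E.i B (TPt.cow (P.coroot a) (-v⁻¹)) * E.nn a B *
        E.uu a B ((v⁻¹ : Bˣ) : B) := by
  have h := nv_eq E ha (-v⁻¹ : Bˣ)
  have e1 : (((-v⁻¹ : Bˣ) : B)) = -((v⁻¹ : Bˣ) : B) := rfl
  have e2 : (((-v⁻¹ : Bˣ)⁻¹ : Bˣ) : B) = -(v : B) := by
    rw [inv_neg, inv_inv]; rfl
  rw [e1, e2, neg_neg, E.uu_neg] at h
  calc E.uu (P.reflectionPerm a a) B (v : B)
      = E.uu a B ((v⁻¹ : Bˣ) : B) * ((E.uu a B ((v⁻¹ : Bˣ) : B))⁻¹ *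
        E.uu (P.reflectionPerm a a) B (v : B) * (E.uu a B ((v⁻¹ : Bˣ) : B))⁻¹) *
        E.uu a B ((v⁻¹ : Bˣ) : B) := by group
    _ = _ := by rw [h]; group

end split

/-! ### the Bruhat decomposition -/

section bruhat

variable (B : Type u) [CommRing B] [Algebra R B]

/-- the union of the `B⁺ n_w B⁺` -/
def Bru : Set (Pt R A B) :=
  {g | ∃ l : List idx, (∀ a ∈ l, a ∈ b.support) ∧ ∃ b₁ ∈ Bor E B, ∃ b₂ ∈ Bor E B,
    g = b₁ * nw E B l * b₂}

/-- the subgroup generated by the torus and the simple root groups and their opposites -/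
def gen : Subgroup (Pt R A B) :=
  Subgroup.closure ({g | ∃ t : TPt M B, g = E.i B t} ∪
    {g | ∃ a ∈ b.support, ∃ x : B, g = E.uu a B x ∨ g = E.uu (P.reflectionPerm a a) B x})

variable {B}

lemma i_mem_gen (t : TPt M B) : E.i B t ∈ gen E B :=
  Subgroup.subset_closure (Or.inl ⟨t, rfl⟩)

lemma uu_mem_gen_simple {a : idx} (ha : a ∈ b.support) (x : B) : E.uu a B x ∈ gen E B :=
  Subgroup.subset_closure (Or.inr ⟨a, ha, x, Or.inl rfl⟩)

lemma uu_mem_gen_neg {a : idx} (ha : a ∈ b.support) (x : B) :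
    E.uu (P.reflectionPerm a a) B x ∈ gen E B :=
  Subgroup.subset_closure (Or.inr ⟨a, ha, x, Or.inr rfl⟩)

lemma nn_mem_gen {a : idx} (ha : a ∈ b.support) : E.nn a B ∈ gen E B :=
  mul_mem (mul_mem (uu_mem_gen_simple E ha _) (uu_mem_gen_neg E ha _)) (uu_mem_gen_simple E ha _)

lemma nw_mem_gen {l : List idx} (hl : ∀ a ∈ l, a ∈ b.support) : nw E B l ∈ gen E B := by
  apply Subgroup.list_prod_mem
  intro y hy
  obtain ⟨c, hc, rfl⟩ := List.mem_map.mp hy
  exact nn_mem_gen E (hl c hc)

/-- all root groups are in the subgroup generated by the simple ones and their opposites -/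
lemma uu_mem_gen (c : idx) (x : B) : E.uu c B x ∈ gen E B := by
  obtain ⟨l, a, ha, hl, rfl⟩ := PinComb.exists_word b c
  have h1 : l.foldr (fun c j => P.reflectionPerm c j) a = wp P l a := by
    clear hl x ha
    induction l with
    | nil => rfl
    | cons c l ih => rw [List.foldr_cons, ih, wp_cons, Equiv.Perm.mul_apply]
  rw [h1]
  obtain ⟨r, hr⟩ := conj_nw E hl a
  have h2 := hr (algebraMap R B ((r⁻¹ : Rˣ) : R) * x)
  rw [← mul_assoc, ← map_mul, Units.mul_inv, map_one, one_mul] at h2
  rw [← h2]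
  exact mul_mem (mul_mem (nw_mem_gen E hl) (uu_mem_gen_simple E ha _)) (inv_mem (nw_mem_gen E hl))

lemma cell_mem_gen (x : idx → B) (t : TPt M B) : E.cell x t ∈ gen E B := by
  refine mul_mem ?_ (i_mem_gen E t)
  apply Subgroup.list_prod_mem
  intro y hy
  obtain ⟨c, hc, rfl⟩ := List.mem_map.mp hy
  exact uu_mem_gen E c _

lemma bor_mul_mem_Bru {g c : Pt R A B} (hg : g ∈ Bru E B) (hc : c ∈ Bor E B) :
    c * g ∈ Bru E B := by
  obtain ⟨l, hl, b₁, h₁, b₂, h₂, rfl⟩ := hg
  exact ⟨l, hl, c * b₁, mul_mem hc h₁, b₂, h₂, by simp only [mul_assoc]⟩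

lemma mul_bor_mem_Bru {g c : Pt R A B} (hg : g ∈ Bru E B) (hc : c ∈ Bor E B) :
    g * c ∈ Bru E B := by
  obtain ⟨l, hl, b₁, h₁, b₂, h₂, rfl⟩ := hg
  exact ⟨l, hl, b₁, h₁, b₂ * c, mul_mem h₂ hc, by simp only [mul_assoc]⟩

lemma nw_mem_Bru {l : List idx} (hl : ∀ a ∈ l, a ∈ b.support) : nw E B l ∈ Bru E B :=
  ⟨l, hl, 1, one_mem _, 1, one_mem _, by simp⟩

end bruhat

section field

variable {K : Type u} [Field K] [Algebra R K]

/-- the key step: `n_a u_a(x) n_w ∈ ⋃ B⁺ n B⁺` -/
lemma nn_uu_nw_mem {a : idx} (ha : a ∈ b.support) (x : K) {l : List idx}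
    (hl : ∀ a ∈ l, a ∈ b.support) : E.nn a K * E.uu a K x * nw E K l ∈ Bru E K := by
  have hal : ∀ c ∈ a :: l, c ∈ b.support := by simpa using ⟨ha, hl⟩
  by_cases hpos : b.IsPos ((wp P l).symm a)
  · -- `w⁻¹ a > 0`
    obtain ⟨r, hr⟩ := conj_nw_inv E hl a
    have h1 : E.nn a K * E.uu a K x * nw E K l =
        nw E K (a :: l) * ((nw E K l)⁻¹ * E.uu a K x * nw E K l) := by
      rw [nw_cons]; group
    rw [h1, hr]
    exact mul_bor_mem_Bru E (nw_mem_Bru E hal) (uu_mem_Bor E hpos _)
  · by_cases hx : x = 0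
    · rw [hx, E.uu_zero, mul_one, ← nw_cons]
      exact nw_mem_Bru E hal
    · -- `n_a u_a(x) = u_{-a}(r x) n_a` with `r x` a unit
      obtain ⟨r, hr⟩ := E.nn_conj ha a
      have hrx : algebraMap R K r * x ≠ 0 :=
        mul_ne_zero ((Units.isUnit r).map (algebraMap R K)).ne_zero hx
      have h1 : E.nn a K * E.uu a K x * nw E K l =
          E.uu (P.reflectionPerm a a) K (algebraMap R K r * x) * nw E K (a :: l) := by
        rw [← hr, nw_cons]; group
      have h2 := uu_neg_eq E ha (Units.mk0 _ hrx)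
      rw [Units.val_mk0] at h2
      rw [h1, h2]
      set y : K := (((Units.mk0 _ hrx)⁻¹ : Kˣ) : K)
      obtain ⟨s, hs⟩ := conj_nw_inv E hal a
      have h3 : E.uu a K y * E.i K (TPt.cow (P.coroot a) (-(Units.mk0 _ hrx)⁻¹)) * E.nn a K *
          E.uu a K y * nw E K (a :: l) =
          (E.uu a K y * E.i K (TPt.cow (P.coroot a) (-(Units.mk0 _ hrx)⁻¹))) *
            (nw E K (a :: a :: l) * ((nw E K (a :: l))⁻¹ * E.uu a K y * nw E K (a :: l))) := by
        rw [nw_cons E K a (a :: l)]; group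
      rw [h3, hs]
      refine bor_mul_mem_Bru E (mul_bor_mem_Bru E (nw_mem_Bru E ?_) (uu_mem_Bor E ?_ _))
        (mul_mem (uu_mem_Bor E (RootPairing.Base.isPos_of_mem_support ha) _) (i_mem_Bor E _))
      · simpa using ⟨ha, hl⟩
      · rw [wp_cons_symm, wp_symm_neg, isPos_neg_iff]
        exact hpos

lemma nn_mul_mem_Bru {a : idx} (ha : a ∈ b.support) {g : Pt R A K} (hg : g ∈ Bru E K) :
    E.nn a K * g ∈ Bru E K := by
  obtain ⟨l, hl, _, ⟨u, hu, t, rfl⟩, b₂, h₂, rfl⟩ := hg
  obtain ⟨x, v, hv, hv', rfl⟩ := exists_split_right E ha hu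
  obtain ⟨t'', ht''⟩ := conj_nw_inv_i (B := K) E hl t
  have h1 : E.nn a K * (v * E.uu a K x * E.i K t * nw E K l * b₂) =
      (E.nn a K * v * (E.nn a K)⁻¹) * (E.nn a K * E.uu a K x * nw E K l *
        (((nw E K l)⁻¹ * E.i K t * nw E K l) * b₂)) := by group
  rw [h1, ht'']
  exact bor_mul_mem_Bru E (mul_bor_mem_Bru E (nn_uu_nw_mem E ha x hl)
    (mul_mem (i_mem_Bor E _) h₂)) (Up_le_Bor E hv')

/-- Over a field, the subgroup generated by the torus and the simple root groups and their opposites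
is contained in the union of the `B⁺ n_w B⁺`. -/
theorem mem_Bru_of_mem_gen {g : Pt R A K} (hg : g ∈ gen E K) : g ∈ Bru E K := by
  have hone : (1 : Pt R A K) ∈ Bru E K := by
    have := nw_mem_Bru E (B := K) (l := []) (by simp)
    simpa using this
  have hnninv : ∀ {a : idx} (_ : a ∈ b.support) {h : Pt R A K}, h ∈ Bru E K →
      (E.nn a K)⁻¹ * h ∈ Bru E K := by
    intro a ha h hh
    rw [nn_inv E ha, mul_assoc]
    exact bor_mul_mem_Bru E (nn_mul_mem_Bru E ha hh) (i_mem_Bor E _)
  have hneg : ∀ {a : idx} (_ : a ∈ b.support) (x : K) {h : Pt R A K}, h ∈ Bru E K →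
      E.uu (P.reflectionPerm a a) K x * h ∈ Bru E K := by
    intro a ha x h hh
    obtain ⟨r, hr⟩ := E.nn_conj ha a
    have h1 := hr (algebraMap R K ((r⁻¹ : Rˣ) : R) * x)
    rw [← mul_assoc, ← map_mul, Units.mul_inv, map_one, one_mul] at h1
    rw [← h1]
    simp only [mul_assoc]
    exact nn_mul_mem_Bru E ha (bor_mul_mem_Bru E (hnninv ha hh)
      (uu_mem_Bor E (RootPairing.Base.isPos_of_mem_support ha) _))
  have hstep : ∀ x ∈ ({g | ∃ t : TPt M K, g = E.i K t} ∪
      {g | ∃ a ∈ b.support, ∃ x : K, g = E.uu a K x ∨ g = E.uu (P.reflectionPerm a a) K x} :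
        Set (Pt R A K)), ∀ h ∈ Bru E K, x * h ∈ Bru E K ∧ x⁻¹ * h ∈ Bru E K := by
    rintro x (⟨t, rfl⟩ | ⟨a, ha, x, rfl | rfl⟩) h hh
    · refine ⟨bor_mul_mem_Bru E hh (i_mem_Bor E _), bor_mul_mem_Bru E hh ?_⟩
      exact inv_mem (i_mem_Bor E t)
    · have h1 := uu_mem_Bor E (B := K) (RootPairing.Base.isPos_of_mem_support ha) x
      exact ⟨bor_mul_mem_Bru E hh h1, bor_mul_mem_Bru E hh (inv_mem h1)⟩
    · refine ⟨hneg ha x hh, ?_⟩
      rw [← E.uu_neg]
      exact hneg ha _ hh
  unfold gen at hg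
  induction hg using Subgroup.closure_induction_left with
  | one => exact hone
  | mul_left x hx y _ hy => exact (hstep x hx y hy).1
  | inv_mul_cancel x hx y _ hy => exact (hstep x hx y hy).2

/-- Over an algebraically closed field the torus and the simple root groups and their opposites
generate. -/
theorem mem_gen_of_isAlgClosed [IsAlgClosed K] (g : Pt R A K) : g ∈ gen E K := by
  obtain ⟨x, t, x', t', rfl⟩ := PinCover.exists_cell_mul_cell E g
  exact mul_mem (cell_mem_gen E x t) (cell_mem_gen E x' t')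

/-- **Bruhat decomposition** over an algebraically closed field (covering part). -/
theorem bruhat [IsAlgClosed K] (g : Pt R A K) :
    ∃ l : List idx, (∀ a ∈ l, a ∈ b.support) ∧ ∃ b₁ ∈ Bor E K, ∃ b₂ ∈ Bor E K,
      g = b₁ * nw E K l * b₂ := mem_Bru_of_mem_gen E (mem_gen_of_isAlgClosed E g)

end field

/-! ### translates of the big cell -/

section translate

variable {B : Type u} [CommRing B] [Algebra R B]

/-- `n_w⁻¹ U⁺ n_w ⊆ U⁻ U⁺` over any ring. -/
theorem conj_Up_sub {l : List idx} (hl : ∀ a ∈ l, a ∈ b.support) {u : Pt R A B}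
    (hu : u ∈ Up E B) : ∃ n ∈ Um E B, ∃ v ∈ Up E B, (nw E B l)⁻¹ * u * nw E B l = n * v := by
  obtain ⟨N, hN⟩ : ∃ N, (inver b l).card = N := ⟨_, rfl⟩
  induction N using Nat.strong_induction_on generalizing l u with
  | _ N ih =>
    by_cases h : ∀ a ∈ b.support, b.IsPos ((wp P l).symm a)
    · -- `w⁻¹` preserves the positive roots
      refine ⟨1, one_mem _, (nw E B l)⁻¹ * u * nw E B l, ?_, by rw [one_mul]⟩
      have h1 : Up E B ≤ (Up E B).comap (MulAut.conj (nw E B l)⁻¹).toMonoidHom := by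
        apply Up_le
        intro c hc x
        rw [Subgroup.mem_comap]
        obtain ⟨r, hr⟩ := conj_nw_inv E hl c
        have h2 : (MulAut.conj (nw E B l)⁻¹).toMonoidHom (E.uu c B x) =
            (nw E B l)⁻¹ * E.uu c B x * nw E B l := by simp
        rw [h2, hr]
        exact uu_mem_Up E (isPos_symm_of_simple h hc) _
      have h3 := h1 hu
      rw [Subgroup.mem_comap] at h3
      simpa using h3
    · push Not at h
      obtain ⟨a, ha, hna⟩ := h
      obtain ⟨x, v, hv, hv', rfl⟩ := exists_split_left E ha hu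
      have hal : ∀ c ∈ a :: l, c ∈ b.support := by simpa using ⟨ha, hl⟩
      obtain ⟨n, hn, v', hv'', h2⟩ := ih (inver b (a :: l)).card
        (by rw [← hN]; exact card_inver_lt ha hna) hal hv' rfl
      obtain ⟨r, hr⟩ := conj_nw_inv E hl a
      refine ⟨E.uu ((wp P l).symm a) B (algebraMap R B r * x) * n,
        mul_mem (uu_mem_Um E hna _) hn, v', hv'', ?_⟩
      rw [mul_assoc _ n v', ← h2, ← hr, nw_cons]
      group

/-- `n_w⁻¹ B⁺ n_w B⁺` is contained in the big cell. -/
theorem inCell_conj {l : List idx} (hl : ∀ a ∈ l, a ∈ b.support) {b₁ b₂ : Pt R A B}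
    (h₁ : b₁ ∈ Bor E B) (h₂ : b₂ ∈ Bor E B) :
    ∃ (x : idx → B) (t : TPt M B), (nw E B l)⁻¹ * (b₁ * nw E B l * b₂) = E.cell x t := by
  rw [inCell_iff_mul]
  obtain ⟨u, hu, t, rfl⟩ := h₁
  obtain ⟨n, hn, v, hv, h⟩ := conj_Up_sub E hl hu
  obtain ⟨t', ht'⟩ := conj_nw_inv_i E hl t
  refine ⟨n, hn, v * E.i B t' * b₂, mul_mem (mul_mem (Up_le_Bor E hv) (i_mem_Bor E _)) h₂, ?_⟩
  have h1 : (nw E B l)⁻¹ * (u * E.i B t * nw E B l * b₂) =
      ((nw E B l)⁻¹ * u * nw E B l) * ((nw E B l)⁻¹ * E.i B t * nw E B l) * b₂ := by group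
  rw [h1, h, ht']
  simp only [mul_assoc]

/-- Over an algebraically closed field every point is in a Weyl translate of the big cell. -/
theorem exists_translate {K : Type u} [Field K] [IsAlgClosed K] [Algebra R K] (g : Pt R A K) :
    ∃ l : List idx, (∀ a ∈ l, a ∈ b.support) ∧ ∃ (x : idx → K) (t : TPt M K),
      g = nw E K l * E.cell x t := by
  obtain ⟨l, hl, b₁, h₁, b₂, h₂, rfl⟩ := bruhat E g
  obtain ⟨x, t, h⟩ := inCell_conj E hl h₁ h₂
  refine ⟨l, hl, x, t, ?_⟩
  rw [← h]; group

/-- the big cell is detected on an algebraic closure of the residue field of a local ring -/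
lemma inCell_of_local {B : Type u} [CommRing B] [Algebra R B] [IsLocalRing B] {K : Type u} [Field K] [Algebra R K] (φ : B →ₐ[R] K)
    (hφ : IsLocalHom (φ : B →+* K)) {g : Pt R A B}
    (h : ∃ (x : idx → K) (t : TPt M K), Pt.map φ g = E.cell x t) :
    ∃ (x : idx → B) (t : TPt M B), g = E.cell x t := by
  change ∃ (x : idx → B) (t : TPt M B), g =
    ((allList b).map (fun a => E.uu a B (x a))).prod * E.i B t
  rw [E.mem_cell_iff]
  by_contra hne
  have h1 : E.cellIdeal.map g.hom.toRingHom ≤ IsLocalRing.maximalIdeal B :=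
    IsLocalRing.le_maximalIdeal hne
  have h2 : E.cellIdeal.map (Pt.map φ g).hom.toRingHom = ⊤ := by
    rw [← E.mem_cell_iff]
    exact h
  have h3 : E.cellIdeal.map (Pt.map φ g).hom.toRingHom =
      (E.cellIdeal.map g.hom.toRingHom).map (φ : B →+* K) := by
    rw [Ideal.map_map]; rfl
  have h4 : (IsLocalRing.maximalIdeal B).map (φ : B →+* K) ≤ ⊥ := by
    rw [Ideal.map_le_iff_le_comap]
    intro x hx
    rw [Ideal.mem_comap, Ideal.mem_bot]
    by_contra hne
    exact (IsLocalRing.mem_maximalIdeal x).mp hx ((isUnit_map_iff (φ : B →+* K) x).mp (IsUnit.mk0 _ hne))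
  rw [h3] at h2
  exact bot_ne_top (top_le_iff.mp (h2 ▸ (Ideal.map_mono h1).trans h4))

/-- **Over a local ring every point is in a Weyl translate of the big cell.** -/
theorem exists_translate_local {B : Type u} [CommRing B] [Algebra R B] [IsLocalRing B] (g : Pt R A B) :
    ∃ l : List idx, (∀ a ∈ l, a ∈ b.support) ∧ ∃ (x : idx → B) (t : TPt M B),
      g = nw E B l * E.cell x t := by
  let K := AlgebraicClosure (IsLocalRing.ResidueField B)
  let φ : B →ₐ[R] K := IsScalarTower.toAlgHom R B K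
  have hφ : IsLocalHom (φ : B →+* K) := by
    have h1 : (φ : B →+* K) = (algebraMap (IsLocalRing.ResidueField B) K).comp
        (IsLocalRing.residue B) := rfl
    rw [h1]
    infer_instance
  obtain ⟨l, hl, x, t, h⟩ := exists_translate E (Pt.map φ g)
  obtain ⟨x', t', h'⟩ := inCell_of_local E φ hφ (g := (nw E B l)⁻¹ * g)
    ⟨x, t, by rw [Pt.map_mul, Pt.map_inv, nw_nat, h, inv_mul_cancel_left]⟩
  exact ⟨l, hl, x', t', by rw [← h', mul_inv_cancel_left]⟩

/-- **Over a local ring the points are generated by the torus and the simple root groups and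
their opposites.** -/
theorem gen_eq_top_local [IsLocalRing B] : gen E B = ⊤ := by
  rw [eq_top_iff]
  intro g _
  obtain ⟨l, hl, x, t, rfl⟩ := exists_translate_local E g
  exact mul_mem (nw_mem_gen E hl) (cell_mem_gen E x t)

end translate

end Groth.Agent.RedSub.H638.WeylCover
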